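import Groth.Agent.Tori96.Scheme

/-!
Tori over a field: rational torsion points and split subtori.
-/

universe u

open CategoryTheory MonoidalCategory CartesianMonoidalCategory MonObj AlgebraicGeometry
open Groth.Agent.FinSub96
open scoped TensorProduct

set_option autoImplicit false

namespace Groth.Agent.Tori96

variable {K : Type u} [Field K] {T : Over (Spec (CommRingCat.of K))} {n : ℕ}

theorem adjoin_away {B : Type u} [CommRing B] [Algebra K B] [Algebra (Polynomial K) B]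
    [IsScalarTower K (Polynomial K) B] [IsLocalization.Away (Polynomial.X : Polynomial K) B] (t : Bˣ)
    (ht : (t : B) = algebraMap (Polynomial K) B Polynomial.X) :
    Algebra.adjoin K {(t : B), ((t⁻¹ : Bˣ) : B)} = ⊤ := by
  rw [eq_top_iff]
  intro r _
  have hX : (t : B) ∈ Algebra.adjoin K {(t : B), ((t⁻¹ : Bˣ) : B)} :=
    Algebra.subset_adjoin (Set.mem_insert _ _)
  have hp : ∀ p : Polynomial K,
      algebraMap (Polynomial K) B p ∈ Algebra.adjoin K {(t : B), ((t⁻¹ : Bˣ) : B)} := by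
    intro p
    induction p using Polynomial.induction_on with
    | C a =>
      rw [← Polynomial.algebraMap_eq, ← IsScalarTower.algebraMap_apply]
      exact Subalgebra.algebraMap_mem _ a
    | add p q hp hq => rw [map_add]; exact add_mem hp hq
    | monomial m a ih =>
      rw [pow_succ, ← _root_.mul_assoc, map_mul, ← ht]
      exact mul_mem ih hX
  obtain ⟨⟨p, y, hy'⟩, hy⟩ := IsLocalization.surj (Submonoid.powers (Polynomial.X : Polynomial K)) r
  obtain ⟨k, hk⟩ := hy'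
  have h1 : r * (t : B) ^ k = algebraMap (Polynomial K) B p := by
    rw [ht, ← map_pow]
    rw [← hy]
    rw [show Polynomial.X ^ k = y from hk]
  have hr : r = algebraMap (Polynomial K) B p * ((t⁻¹ : Bˣ) : B) ^ k := by
    rw [← h1, _root_.mul_assoc, ← mul_pow, Units.mul_inv, one_pow, _root_.mul_one]
  rw [hr]
  exact mul_mem (hp p)
    (pow_mem (Algebra.subset_adjoin (Set.mem_insert_of_mem _ (Set.mem_singleton _))) k)

theorem adjoin_lau : Algebra.adjoin K {((isUnit_lauX (K := K)).unit : Lau K),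
    (((isUnit_lauX (K := K)).unit⁻¹ : (Lau K)ˣ) : Lau K)} = ⊤ :=
  adjoin_away _ (isUnit_lauX (K := K)).unit_spec

/-- The unit of the monoidal structure is the spectrum of the field. -/
noncomputable def spUnit : sp (K := K) K ≅ 𝟙_ (Over (Spec (CommRingCat.of K))) :=
  Over.isoMk (Iso.refl _) (by
    show 𝟙 _ ≫ 𝟙 _ = Spec.map (CommRingCat.ofHom (algebraMap K K))
    rw [Category.comp_id, Algebra.algebraMap_self]
    exact (Spec.map_id _).symm)

theorem exists_torus_data [GrpObj T]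
    (hT : ∃ (L : Type u) (_ : Field L) (_ : Algebra K L),
      Red.IsSplitTorusWith (Fin n → ℤ) (Red.bc (Spec.map (CommRingCat.ofHom (algebraMap K L))) T)) :
    ∃ (F : Type u) (_ : Field F) (_ : Algebra K F)
      (H : Subgroup (Matrix.GeneralLinearGroup (Fin n) ℤ))
      (Φ : (𝟙_ (Over (Spec (CommRingCat.of K))) ⟶ T) →* (Multiplicative (Fin n → ℤ) →* Fˣ)),
      Finite H ∧ Function.Injective Φ ∧
      (∀ m : Fin n → ℤ, m ≠ 0 → IsFixed H m →
        ∃ i : Red.Gm (Spec (CommRingCat.of K)) ⟶ T, IsMonHom i ∧ Mono i) ∧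
      (∀ (x : 𝟙_ (Over (Spec (CommRingCat.of K))) ⟶ T) (d : ℕ), 0 < d → x ^ d = 1 →
        (Polynomial.X ^ d - 1 : Polynomial K).Splits → IsInv Φ H x) := by
  obtain ⟨L, _, _, hs⟩ := hT
  have := isAffine_of_split hs
  obtain ⟨Δ, hΔ⟩ := exists_comul (T := T)
  obtain ⟨wL, hwL⟩ := exists_split hs Δ hΔ
  obtain ⟨F, _, _, hfin, hgal, w, hw⟩ := exists_split_galois hwL
  obtain ⟨ρ, hρ⟩ := exists_act hw
  obtain ⟨H, hH, hH1, hH2⟩ := exists_matrix_rep ρ
  let toA : (sp (K := K) K ⟶ T) → ((Γ(T.left, ⊤) : Type u) →ₐ[K] K) := fun p =>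
    (Equiv.ofBijective _ (ofA_bijective (T := T) K)).symm p
  have htoA : ∀ p, ofA T (toA p) = p := fun p =>
    (Equiv.ofBijective _ (ofA_bijective (T := T) K)).apply_symm_apply p
  have htoA_mul : ∀ p q, toA (p * q) = pmul Δ (toA p) (toA q) := fun p q =>
    (ofA_bijective (T := T) K).1 (by rw [htoA, hΔ, htoA, htoA])
  let Φ : (𝟙_ (Over (Spec (CommRingCat.of K))) ⟶ T) →* (Multiplicative (Fin n → ℤ) →* Fˣ) :=
    MonoidHom.mk' (fun x => pval w (toA (spUnit.hom ≫ x))) fun x y => by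
      show pval w (toA (spUnit.hom ≫ (x * y))) = _
      rw [MonObj.comp_mul, htoA_mul, pval_pmul hw]
  have hΦ : Function.Injective Φ := by
    intro x y h
    have h1 := congrArg (ofA T) (pval_injective hw h)
    rw [htoA, htoA] at h1
    exact (cancel_epi spUnit.hom).mp h1
  refine ⟨F, inferInstance, inferInstance, H, Φ, hH, hΦ, fun m hm0 hm => ?_, fun x d hd hx hsp => ?_⟩
  · have hfixρ : ∀ σ, ρ σ m = m := fun σ => by
      obtain ⟨gm, hgm, he⟩ := hH2 σ
      rw [← he]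
      exact hm gm hgm
    obtain ⟨f, hf, hinv⟩ := exists_invariant_functional ρ hm0 hfixρ
    obtain ⟨φ, hφ, hφhom⟩ := exists_hom_of_cocharacter hw hρ f hf hinv (Lau K)
      (isUnit_lauX (K := K)).unit adjoin_lau
    obtain ⟨e, he⟩ := exists_coord_Gm (K := K)
    have := isIso_toSp_of_isAffine (T := T)
    refine ⟨e.hom ≫ ofA T φ, ?_, ?_⟩
    · refine RedPts82.isMonHom_of_points _ fun Z a b => ?_
      have hstep : ∀ a : Z ⟶ Red.Gm (Spec (CommRingCat.of K)),
          a ≫ e.hom ≫ ofA T φ = toSp Z ≫ ofA T ((pt (a ≫ e.hom)).comp φ) := fun a => by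
        rw [← comp_ofA, ← Category.assoc, ← Category.assoc]
        congr 1
        exact (ofHom_pt (a ≫ e.hom)).symm
      rw [hstep, hstep, hstep, ← MonObj.comp_mul, ← hΔ]
      congr 2
      refine (hφhom _ _ _ _ ?_).symm
      show pt ((a * b) ≫ e.hom) (lauX K) = pt (a ≫ e.hom) (lauX K) * pt (b ≫ e.hom) (lauX K)
      rw [← val, ← val, ← val, he, he, he, RedPts82.gmFn_mul]
    · have : IsClosedImmersion (spMap (K := K) φ).left :=
        IsClosedImmersion.spec_of_surjective (CommRingCat.ofHom φ.toRingHom) hφ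
      have : Mono (spMap (K := K) φ).left := inferInstance
      have : Mono (spMap (K := K) φ) := Over.mono_of_mono_left _
      show Mono (e.hom ≫ spMap φ ≫ inv (toSp T))
      infer_instance
  · intro gm hgm m
    obtain ⟨σ, hσ⟩ := hH1 gm hgm
    rw [hσ]
    apply Units.ext
    show (pval w (toA (spUnit.hom ≫ x)) (Multiplicative.ofAdd (ρ σ m)) : F) = _
    rw [← pval_act hρ]
    set a := pval w (toA (spUnit.hom ≫ x)) (Multiplicative.ofAdd m) with ha
    have hpow : a ^ d = 1 := (pow_eq_one_iff Φ hΦ x d).mp hx m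
    obtain ⟨c, hc⟩ := hsp.mem_range_of_isRoot (Polynomial.monic_X_pow_sub_C (1 : K) hd.ne').ne_zero
      (i := algebraMap K F) (x := (a : F))
      (by simp [Polynomial.IsRoot, ← Units.val_pow_eq_pow_val, hpow])
    show σ (a : F) = (a : F)
    rw [← hc, AlgEquiv.commutes]

theorem exists_mono_Gm {d : ℕ} (hd : 0 < d)
    (hΥ : ∀ H : Subgroup (Matrix.GeneralLinearGroup (Fin n) ℤ), Finite H → Nat.card H < d)
    {ζ : K} (hζ : IsPrimitiveRoot ζ d) [GrpObj T]
    (hT : ∃ (L : Type u) (_ : Field L) (_ : Algebra K L),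
      Red.IsSplitTorusWith (Fin n → ℤ) (Red.bc (Spec.map (CommRingCat.ofHom (algebraMap K L))) T))
    (x : 𝟙_ (Over (Spec (CommRingCat.of K))) ⟶ T) (hx : orderOf x = d) :
    ∃ i : Red.Gm (Spec (CommRingCat.of K)) ⟶ T, IsMonHom i ∧ Mono i := by
  obtain ⟨F, _, _, H, Φ, hH, hΦ, hGm, hinv⟩ := exists_torus_data hT
  by_contra hno
  have hfix : ∀ m, IsFixed H m → m = 0 := fun m hm => by
    by_contra hm0
    exact hno (hGm m hm0 hm)
  have := pow_card_eq_one Φ hΦ H hfix x
    (hinv x d hd (hx ▸ pow_orderOf_eq_one x) (by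
      simpa using Polynomial.X_pow_sub_one_splits hζ))
  have hdvd := orderOf_dvd_of_pow_eq_one this
  rw [hx] at hdvd
  exact absurd (Nat.le_of_dvd Nat.card_pos hdvd) (not_le.mpr (hΥ H hH))

theorem torsion_bounds (hK : ∀ n : ℕ, 0 < n → (Polynomial.X ^ n - 1 : Polynomial K).Splits) [GrpObj T]
    (hT : ∃ (L : Type u) (_ : Field L) (_ : Algebra K L),
      Red.IsSplitTorusWith (Fin n → ℤ) (Red.bc (Spec.map (CommRingCat.ofHom (algebraMap K L))) T))
    (haniso : ∀ i : Red.Gm (Spec (CommRingCat.of K)) ⟶ T, IsMonHom i → Mono i → False) :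
    ∃ (F : Type u) (_ : Field F) (_ : Algebra K F)
      (H : Subgroup (Matrix.GeneralLinearGroup (Fin n) ℤ))
      (Φ : (𝟙_ (Over (Spec (CommRingCat.of K))) ⟶ T) →* (Multiplicative (Fin n → ℤ) →* Fˣ)),
      Finite H ∧ Function.Injective Φ ∧ (∀ m, IsFixed H m → m = 0) ∧
      ∀ x, IsOfFinOrder x → IsInv Φ H x := by
  obtain ⟨F, _, _, H, Φ, hH, hΦ, hGm, hinv⟩ := exists_torus_data hT
  refine ⟨F, inferInstance, inferInstance, H, Φ, hH, hΦ, fun m hm => ?_, fun x hx => ?_⟩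
  · by_contra hm0
    obtain ⟨i, hi, hi'⟩ := hGm m hm0 hm
    exact haniso i hi hi'
  · exact hinv x (orderOf x) hx.orderOf_pos (pow_orderOf_eq_one x) (hK _ hx.orderOf_pos)

theorem isOfFinOrder_of_mem {P : Type u} [Group P] (G : Subgroup P) [Finite G] {x : P} (hx : x ∈ G) :
    IsOfFinOrder x :=
  G.subtype.isOfFinOrder (isOfFinOrder_of_finite (⟨x, hx⟩ : G))

theorem bounds_general (hK : ∀ n : ℕ, 0 < n → (Polynomial.X ^ n - 1 : Polynomial K).Splits) [GrpObj T]
    (hT : ∃ (L : Type u) (_ : Field L) (_ : Algebra K L),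
      Red.IsSplitTorusWith (Fin n → ℤ) (Red.bc (Spec.map (CommRingCat.ofHom (algebraMap K L))) T))
    (haniso : ∀ i : Red.Gm (Spec (CommRingCat.of K)) ⟶ T, IsMonHom i → Mono i → False) :
    (∀ x : 𝟙_ (Over (Spec (CommRingCat.of K))) ⟶ T, IsOfFinOrder x →
      ((orderOf x : ℕ) : K) ≠ 0 ∧ ∃ H : Subgroup (Matrix.GeneralLinearGroup (Fin n) ℤ),
        Finite H ∧ orderOf x ≤ Nat.card H) ∧
    (∀ G : Subgroup (𝟙_ (Over (Spec (CommRingCat.of K))) ⟶ T), Finite G →
      ∃ H : Subgroup (Matrix.GeneralLinearGroup (Fin n) ℤ), Finite H ∧ Nat.card G ≤ Nat.card H ^ n) := by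
  obtain ⟨F, _, _, H, Φ, hH, hΦ, hfix, hinv⟩ := torsion_bounds hK hT haniso
  refine ⟨fun x hx => ⟨fun h => cast_orderOf_ne_zero Φ hΦ x hx ?_, H, hH,
    orderOf_le_of_pow_eq_one Nat.card_pos (pow_card_eq_one Φ hΦ H hfix x (hinv x hx))⟩,
    fun G hG => ⟨H, hH, card_le_pow Φ hΦ G Nat.card_pos fun x hx =>
      pow_card_eq_one Φ hΦ H hfix x (hinv x (isOfFinOrder_of_mem G hx))⟩⟩
  rw [← map_natCast (algebraMap K F), h, map_zero]

theorem bounds_rank_two (hK : ∀ n : ℕ, 0 < n → (Polynomial.X ^ n - 1 : Polynomial K).Splits) [GrpObj T]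
    (hT : ∃ (L : Type u) (_ : Field L) (_ : Algebra K L),
      Red.IsSplitTorusWith (Fin 2 → ℤ) (Red.bc (Spec.map (CommRingCat.ofHom (algebraMap K L))) T))
    (haniso : ∀ i : Red.Gm (Spec (CommRingCat.of K)) ⟶ T, IsMonHom i → Mono i → False) :
    (∀ x : 𝟙_ (Over (Spec (CommRingCat.of K))) ⟶ T, IsOfFinOrder x → orderOf x ≤ 6) ∧
    (∀ G : Subgroup (𝟙_ (Over (Spec (CommRingCat.of K))) ⟶ T), Finite G → Nat.card G ≤ 36) := by
  obtain ⟨F, _, _, H, Φ, hH, hΦ, hfix, hinv⟩ := torsion_bounds hK hT haniso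
  obtain ⟨D, hD0, hD4, hD⟩ := exists_bound_rank_two hΦ hfix
  refine ⟨fun x hx => (orderOf_le_of_pow_eq_one hD0 (hD x (hinv x hx))).trans (by omega),
    fun G hG => (card_le_pow Φ hΦ G hD0 fun x hx => hD x (hinv x (isOfFinOrder_of_mem G hx))).trans ?_⟩
  exact (Nat.pow_le_pow_left hD4 2).trans (by norm_num)

end Groth.Agent.Tori96
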