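import Groth.Agent.Tori96.Galois

/-!
Bounds on torsion of groups embedded equivariantly in the values on a lattice.
-/

universe u

open Matrix

set_option autoImplicit false

namespace Groth.Agent.Tori96

variable {n : ℕ}

theorem mon_eq {n : ℕ} {G : Type u} [CommGroup G] (c : Multiplicative (Fin n → ℤ) →* G) :
    c = mon fun i => c (Multiplicative.ofAdd (Pi.single i 1)) := by
  classical
  refine MonoidHom.ext fun m => ?_
  obtain ⟨v, rfl⟩ := Multiplicative.ofAdd.surjective m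
  show c (Multiplicative.ofAdd v) = ∏ i, c (Multiplicative.ofAdd (Pi.single i 1)) ^ (v i)
  simp only [← map_zpow, ← map_prod, ← ofAdd_zsmul, ← ofAdd_sum]
  congr 2
  ext j
  simp [Finset.sum_apply, Pi.single_apply]

theorem exists_matrix_rep {G : Type u} [Group G] [Finite G]
    (ρ : G →* Module.End ℤ (Fin n → ℤ)) :
    ∃ H : Subgroup (Matrix.GeneralLinearGroup (Fin n) ℤ), Finite H ∧
      (∀ γ ∈ H, ∃ g, ∀ m, (γ : Matrix (Fin n) (Fin n) ℤ) *ᵥ m = ρ g m) ∧
      (∀ g, ∃ γ ∈ H, ∀ m, (γ : Matrix (Fin n) (Fin n) ℤ) *ᵥ m = ρ g m) := by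
  let θ : G →* Matrix.GeneralLinearGroup (Fin n) ℤ :=
    (Units.map (LinearMap.toMatrixAlgEquiv' (R := ℤ) (n := Fin n)).toAlgHom.toRingHom.toMonoidHom).comp
      ρ.toHomUnits
  have hθ : ∀ g m, (θ g : Matrix (Fin n) (Fin n) ℤ) *ᵥ m = ρ g m := by
    intro g m
    show LinearMap.toMatrixAlgEquiv' (ρ g) *ᵥ m = ρ g m
    rw [← Matrix.toLinAlgEquiv'_apply, Matrix.toLinAlgEquiv'_toMatrixAlgEquiv']
  exact ⟨θ.range, Finite.of_surjective _ θ.rangeRestrict_surjective,
    fun γ hγ => by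
      obtain ⟨g, rfl⟩ := hγ
      exact ⟨g, hθ g⟩,
    fun g => ⟨θ g, ⟨g, rfl⟩, hθ g⟩⟩

variable {P : Type u} [Group P] {F : Type u} [Field F]
  (Φ : P →* (Multiplicative (Fin n → ℤ) →* Fˣ)) (hΦ : Function.Injective Φ)
  (H : Subgroup (Matrix.GeneralLinearGroup (Fin n) ℤ))

/-- The vector is fixed by the subgroup. -/
def IsFixed (m : Fin n → ℤ) : Prop := ∀ γ ∈ H, (γ : Matrix (Fin n) (Fin n) ℤ) *ᵥ m = m

/-- The point is invariant under the subgroup. -/
def IsInv (x : P) : Prop :=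
  ∀ γ ∈ H, ∀ m, Φ x (Multiplicative.ofAdd ((γ : Matrix (Fin n) (Fin n) ℤ) *ᵥ m)) = Φ x (Multiplicative.ofAdd m)

include hΦ in
theorem pow_eq_one_iff (x : P) (k : ℕ) :
    x ^ k = 1 ↔ ∀ m, Φ x (Multiplicative.ofAdd m) ^ k = 1 := by
  constructor
  · intro h m
    have := DFunLike.congr_fun (map_pow Φ x k) (Multiplicative.ofAdd m)
    rw [h, map_one] at this
    exact this.symm
  · intro h
    apply hΦ
    refine MonoidHom.ext fun m => ?_
    rw [map_pow, map_one]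
    exact h (Multiplicative.toAdd m)

include hΦ in
theorem pow_card_eq_one [Finite H] (hfix : ∀ m, IsFixed H m → m = 0) (x : P) (hx : IsInv Φ H x) :
    x ^ Nat.card H = 1 := by
  classical
  have := Fintype.ofFinite H
  rw [pow_eq_one_iff Φ hΦ]
  intro m
  have hsum : ∑ γ : H, ((γ : Matrix.GeneralLinearGroup (Fin n) ℤ) : Matrix (Fin n) (Fin n) ℤ) *ᵥ m = 0 := by
    apply hfix
    intro δ hδ
    rw [Matrix.mulVec_sum]
    refine Fintype.sum_equiv (Equiv.mulLeft (⟨δ, hδ⟩ : H)) _ _ fun γ => ?_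
    rw [Matrix.mulVec_mulVec]
    rfl
  have h1 := congrArg (fun v => Φ x (Multiplicative.ofAdd v)) hsum
  simp only [ofAdd_sum, map_prod, ofAdd_zero, map_one] at h1
  rwa [Finset.prod_congr rfl (fun (γ : H) _ => hx γ.1 γ.2 m), Finset.prod_const, Finset.card_univ,
    ← Nat.card_eq_fintype_card] at h1

include hΦ in
theorem cast_orderOf_ne_zero (x : P) (hx : IsOfFinOrder x) : ((orderOf x : ℕ) : F) ≠ 0 := by
  intro h
  rcases CharP.exists' F with h0 | ⟨p, hp, hcp⟩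
  · exact hx.orderOf_pos.ne' (Nat.cast_eq_zero.mp h)
  · obtain ⟨e, he⟩ := (CharP.cast_eq_zero_iff F p _).mp h
    have hpos := hx.orderOf_pos
    have hy : x ^ e = 1 := by
      rw [pow_eq_one_iff Φ hΦ]
      intro m
      have h1 := (pow_eq_one_iff Φ hΦ x (orderOf x)).mp (pow_orderOf_eq_one x) m
      rw [he, mul_comm, pow_mul] at h1
      have h2 : ((Φ x (Multiplicative.ofAdd m) ^ e : Fˣ) : F) ^ p = 1 := by
        rw [← Units.val_pow_eq_pow_val, h1, Units.val_one]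
      have h3 : (((Φ x (Multiplicative.ofAdd m) ^ e : Fˣ) : F) - 1) ^ p = 0 := by
        rw [sub_pow_char, h2, one_pow, sub_self]
      exact Units.ext (by rw [Units.val_one]; exact sub_eq_zero.mp ((pow_eq_zero_iff hp.out.ne_zero).mp h3))
    have he0 : 0 < e := Nat.pos_of_ne_zero fun h0 => by rw [h0, mul_zero] at he; omega
    have hle := orderOf_le_of_pow_eq_one he0 hy
    rw [he] at hle
    nlinarith [hp.out.two_le]

include hΦ in
theorem card_le_pow (G : Subgroup P) [Finite G] {D : ℕ} (hD : 0 < D) (hG : ∀ x ∈ G, x ^ D = 1) :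
    Nat.card G ≤ D ^ n := by
  have : NeZero D := ⟨hD.ne'⟩
  let φ : G → (Fin n → rootsOfUnity D F) := fun x i =>
    ⟨Φ x (Multiplicative.ofAdd (Pi.single i 1)), by
      rw [mem_rootsOfUnity]
      exact (pow_eq_one_iff Φ hΦ (x : P) D).mp (hG x x.2) _⟩
  have hinj : Function.Injective φ := by
    intro x y hxy
    apply Subtype.ext
    apply hΦ
    rw [mon_eq (Φ (x : P)), mon_eq (Φ (y : P))]
    exact congrArg mon (funext fun i => congrArg Subtype.val (congrFun hxy i))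
  refine (Nat.card_le_card_of_injective φ hinj).trans ?_
  rw [Nat.card_pi, Finset.prod_const, Finset.card_univ, Fintype.card_fin]
  refine Nat.pow_le_pow_left ?_ n
  exact card_rootsOfUnity F D

theorem exists_bound_rank_two {Φ : P →* (Multiplicative (Fin 2 → ℤ) →* Fˣ)} (hΦ : Function.Injective Φ)
    {H : Subgroup (Matrix.GeneralLinearGroup (Fin 2) ℤ)} [Finite H] (hfix : ∀ m, IsFixed H m → m = 0) :
    ∃ D : ℕ, 0 < D ∧ D ≤ 4 ∧ ∀ x, IsInv Φ H x → x ^ D = 1 := by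
  obtain ⟨γ, hγ, hdet⟩ : ∃ γ ∈ H, ((γ : Matrix (Fin 2) (Fin 2) ℤ) - 1).det ≠ 0 := by
    by_contra h
    push Not at h
    obtain ⟨v, hv, hfv⟩ := BddFin96.exists_common_fixed H h
    exact hv (hfix v hfv)
  obtain ⟨k, hk, he⟩ := isOfFinOrder_iff_pow_eq_one.mp (isOfFinOrder_of_finite (⟨γ, hγ⟩ : H))
  have hek : (γ : Matrix (Fin 2) (Fin 2) ℤ) ^ k = 1 := by
    rw [← Units.val_pow_eq_pow_val, show γ ^ k = 1 from congrArg Subtype.val he, Units.val_one]
  refine ⟨((γ : Matrix (Fin 2) (Fin 2) ℤ) - 1).det.natAbs, Int.natAbs_pos.mpr hdet, ?_, fun x hx => ?_⟩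
  · have h1 := BddFin96.det_sub_one (γ : Matrix (Fin 2) (Fin 2) ℤ)
    have h2 := BddFin96.det_sq _ hk hek
    have h3 := BddFin96.abs_trace_le _ hk hek
    rcases abs_eq (zero_le_one' ℤ) |>.mp h2 with h | h <;> rw [abs_le] at h3 <;> omega
  · rw [pow_eq_one_iff Φ hΦ]
    intro m
    set D := ((γ : Matrix (Fin 2) (Fin 2) ℤ) - 1).det with hDdef
    set u := ((γ : Matrix (Fin 2) (Fin 2) ℤ) - 1).adjugate *ᵥ m with hu
    have hγu : (γ : Matrix (Fin 2) (Fin 2) ℤ) *ᵥ u - u = D • m := by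
      rw [← Matrix.one_mulVec u, Matrix.mulVec_mulVec, mul_one, ← Matrix.sub_mulVec, hu,
        Matrix.mulVec_mulVec, Matrix.mul_adjugate, Matrix.smul_mulVec, Matrix.one_mulVec]
    have h1 : Φ x (Multiplicative.ofAdd (D • m)) = 1 := by
      rw [← hγu, ofAdd_sub, map_div, hx γ hγ u, div_self']
    rw [ofAdd_zsmul, map_zpow] at h1
    exact pow_natAbs_eq_one.mpr h1

end Groth.Agent.Tori96
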