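import Groth.Agent.FinSub96.GaGm
import Groth.Agent.RedPts82.TorusBasic
import Groth.Agent.Tori96.Bounds

/-!
Tori over a field: the comultiplication on global functions and the splitting characters.
-/

universe u

open CategoryTheory MonoidalCategory CartesianMonoidalCategory MonObj AlgebraicGeometry
open Groth.Agent.FinSub96
open scoped TensorProduct

set_option autoImplicit false

namespace Groth.Agent.Tori96

variable {K : Type u} [Field K] {T : Over (Spec (CommRingCat.of K))}

section Field

variable {L : Type u} [Field L] [Algebra K L] {n : ℕ}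

theorem isAffine_of_split [GrpObj T]
    (hs : Red.IsSplitTorusWith (Fin n → ℤ) (Red.bc (Spec.map (CommRingCat.ofHom (algebraMap K L))) T)) :
    IsAffine T.left := by
  obtain ⟨e⟩ := hs
  let f := Spec.map (CommRingCat.ofHom (algebraMap K L))
  let e' : Red.bc f T ≅ Red.DS (Spec (CommRingCat.of L)) (Fin n → ℤ) := (Grp.forget _).mapIso e
  have h1 : IsAffineHom (Red.bc f T).hom := by
    rw [← Over.w e'.hom]
    have : IsIso e'.hom.left := inferInstanceAs (IsIso ((Over.forget _).map e'.hom))
    have := RedPts82.isAffineHom_DS (Spec (CommRingCat.of L)) (Fin n → ℤ)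
    infer_instance
  have hf : Unr55.fpqc f := by
    refine ⟨⟨?_, ?_⟩, inferInstanceAs (QuasiCompact (Spec.map (CommRingCat.ofHom (algebraMap K L))))⟩
    · exact ⟨fun y => ⟨Nonempty.some inferInstance, Subsingleton.elim _ _⟩⟩
    · exact Flat.SpecMap_iff.mpr (RingHom.flat_algebraMap_iff.mpr inferInstance)
  have : MorphismProperty.DescendsAlong @IsAffineHom Unr55.fpqc.{u} := Unr55.isAffineHom
  have : IsAffineHom T.hom := MorphismProperty.of_isPullback_of_descendsAlong (P := @IsAffineHom)
    (IsPullback.of_hasPullback T.hom f).flip hf h1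
  exact isAffine_of_isAffineHom T.hom

theorem isIso_toSp_of_isAffine [IsAffine T.left] : IsIso (toSp T) := by
  have : IsIso ((Over.forget _).map (toSp T)) := inferInstanceAs (IsIso T.left.toSpecΓ)
  exact isIso_of_reflects_iso (toSp T) (Over.forget _)

variable (T) in
/-- The point attached to a homomorphism out of the algebra of global functions. -/
noncomputable def ofA [IsAffine T.left] {S : Type u} [CommRing S] [Algebra K S]
    (x : (Γ(T.left, ⊤) : Type u) →ₐ[K] S) : sp (K := K) S ⟶ T :=
  haveI := isIso_toSp_of_isAffine (T := T)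
  spMap x ≫ inv (toSp T)

theorem spMap_comp {R S U : Type u} [CommRing R] [Algebra K R] [CommRing S] [Algebra K S] [CommRing U]
    [Algebra K U] (a : S →ₐ[K] U) (b : R →ₐ[K] S) : spMap a ≫ spMap b = spMap (a.comp b) :=
  pt_injective (by rw [pt_comp_spMap, pt_spMap, pt_spMap]; rfl)

theorem ofA_bijective [IsAffine T.left] (S : Type u) [CommRing S] [Algebra K S] :
    Function.Bijective (ofA T (S := S)) := by
  have := isIso_toSp_of_isAffine (T := T)
  constructor
  · intro x y h
    have h1 := congrArg pt ((cancel_mono (inv (toSp T))).mp h)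
    rw [pt_spMap, pt_spMap] at h1
    exact AlgHom.ext fun a => toSec_bijective.injective (DFunLike.congr_fun h1 a)
  · intro p
    obtain ⟨ψ, hψ⟩ := exists_eq_spMap (p ≫ toSp T)
    refine ⟨ψ, ?_⟩
    show spMap ψ ≫ inv (toSp T) = p
    rw [← hψ, Category.assoc, IsIso.hom_inv_id, Category.comp_id]

theorem comp_ofA [IsAffine T.left] {S U : Type u} [CommRing S] [Algebra K S] [CommRing U] [Algebra K U]
    (a : S →ₐ[K] U) (x : (Γ(T.left, ⊤) : Type u) →ₐ[K] S) : spMap a ≫ ofA T x = ofA T (a.comp x) := by
  rw [ofA, ofA, ← Category.assoc, spMap_comp]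

theorem exists_comul [IsAffine T.left] [GrpObj T] :
    ∃ Δ : (Γ(T.left, ⊤) : Type u) →ₐ[K] (Γ(T.left, ⊤) : Type u) ⊗[K] (Γ(T.left, ⊤) : Type u),
      ∀ (S : Type u) [CommRing S] [Algebra K S] (x y : (Γ(T.left, ⊤) : Type u) →ₐ[K] S),
        ofA T (pmul Δ x y) = ofA T x * ofA T y := by
  obtain ⟨Δ, hΔ⟩ := (ofA_bijective (T := T) _).2
    (ofA T (Algebra.TensorProduct.includeLeft (R := K) (A := (Γ(T.left, ⊤) : Type u))
        (B := (Γ(T.left, ⊤) : Type u))) *
      ofA T (Algebra.TensorProduct.includeRight (R := K) (A := (Γ(T.left, ⊤) : Type u))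
        (B := (Γ(T.left, ⊤) : Type u))))
  refine ⟨Δ, fun S _ _ x y => ?_⟩
  rw [pmul, ← comp_ofA, hΔ, MonObj.comp_mul, comp_ofA, comp_ofA, Algebra.TensorProduct.productMap_left,
    Algebra.TensorProduct.productMap_right]

variable {A : Type u} [CommRing A] [Algebra K A]

/-- A splitting from multiplicative natural bijective values on points. -/
theorem exists_split_of_values (Δ : A →ₐ[K] A ⊗[K] A)
    (V : ∀ (S : Type u) [CommRing S] [Algebra K S] [Algebra L S] [IsScalarTower K L S],
      (A →ₐ[K] S) → (Multiplicative (Fin n → ℤ) →* Sˣ))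
    (hbij : ∀ (S : Type u) [CommRing S] [Algebra K S] [Algebra L S] [IsScalarTower K L S],
      Function.Bijective (V S))
    (hnat : ∀ (S S' : Type u) [CommRing S] [Algebra K S] [Algebra L S] [IsScalarTower K L S]
      [CommRing S'] [Algebra K S'] [Algebra L S'] [IsScalarTower K L S'] (g : S →ₐ[L] S')
      (x : A →ₐ[K] S), V S' ((g.restrictScalars K).comp x) = (Units.map (g : S →* S')).comp (V S x))
    (hmul : ∀ (S : Type u) [CommRing S] [Algebra K S] [Algebra L S] [IsScalarTower K L S]
      (x y : A →ₐ[K] S), V S (pmul Δ x y) = V S x * V S y) :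
    ∃ w : Fin n → (L ⊗[K] A)ˣ, IsSplit Δ w := by
  classical
  let univ : A →ₐ[K] L ⊗[K] A := Algebra.TensorProduct.includeRight
  let c := V (L ⊗[K] A) univ
  let w : Fin n → (L ⊗[K] A)ˣ := fun i => c (Multiplicative.ofAdd (Pi.single i 1))
  have hc : mon w = c := (mon_eq c).symm
  refine ⟨w, fun i => ?_, ?_⟩
  · let S := L ⊗[K] (A ⊗[K] A)
    have hnat' : ∀ f : A →ₐ[K] A ⊗[K] A,
        V S ((Algebra.TensorProduct.includeRight : A ⊗[K] A →ₐ[K] S).comp f) =
          (Units.map (mapR L f : L ⊗[K] A →* S)).comp c := by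
      intro f
      let g : L ⊗[K] A →ₐ[L] S := Algebra.TensorProduct.map (AlgHom.id L L) f
      have h0 := hnat (L ⊗[K] A) S g univ
      have he : (g.restrictScalars K).comp univ = (Algebra.TensorProduct.includeRight : A ⊗[K] A →ₐ[K] S).comp f :=
        AlgHom.ext fun a => Algebra.TensorProduct.map_tmul (AlgHom.id L L) f 1 a
      rw [he] at h0
      exact h0
    have he : pmul Δ (Algebra.TensorProduct.includeLeft : A →ₐ[K] A ⊗[K] A)
        Algebra.TensorProduct.includeRight = Δ := by
      refine AlgHom.ext fun a => ?_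
      show Algebra.TensorProduct.productMap _ _ (Δ a) = Δ a
      have : Algebra.TensorProduct.productMap (Algebra.TensorProduct.includeLeft : A →ₐ[K] A ⊗[K] A)
          Algebra.TensorProduct.includeRight = AlgHom.id K _ :=
        Algebra.TensorProduct.ext (Algebra.TensorProduct.productMap_left _ _)
          (Algebra.TensorProduct.productMap_right _ _)
      rw [this]
      rfl
    have h1 := hnat' (pmul Δ (Algebra.TensorProduct.includeLeft : A →ₐ[K] A ⊗[K] A)
      Algebra.TensorProduct.includeRight)
    rw [comp_pmul, hmul, hnat', hnat', he] at h1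
    exact (congrArg Units.val (DFunLike.congr_fun h1 (Multiplicative.ofAdd (Pi.single i 1)))).symm
  · let T₀ : Multiplicative (Fin n → ℤ) →* (LP n L)ˣ := (MonoidAlgebra.of L _).toHomUnits
    obtain ⟨x₀, hx₀⟩ := (hbij (LP n L)).2 T₀
    let G : L ⊗[K] A →ₐ[L] LP n L :=
      Algebra.TensorProduct.lift (Algebra.ofId L (LP n L)) x₀ fun _ _ => Commute.all _ _
    have hG : (G.restrictScalars K).comp univ = x₀ := AlgHom.ext fun a => by simp [G, univ]
    have hGc := hnat _ _ G univ
    rw [hG, hx₀] at hGc
    have hleft : ∀ p, G (psi w p) = p := by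
      intro p
      induction p using MonoidAlgebra.induction_linear with
      | zero => simp
      | add p q hp hq => rw [map_add, map_add, hp, hq]
      | single m r =>
        rw [psi_single, map_smul, hc]
        have := congrArg Units.val (DFunLike.congr_fun hGc m)
        simp only [T₀, MonoidHom.coe_toHomUnits, MonoidAlgebra.of_apply, MonoidHom.comp_apply,
          Units.coe_map, MonoidHom.coe_coe] at this
        show r • G _ = _
        rw [show G ((c m : (L ⊗[K] A)ˣ) : L ⊗[K] A) = MonoidAlgebra.single m 1 from this.symm]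
        simp
    have hright : ((psi w).restrictScalars K).comp x₀ = univ := by
      apply (hbij (L ⊗[K] A)).1
      rw [hnat (LP n L) (L ⊗[K] A) (psi w) x₀, hx₀]
      refine MonoidHom.ext fun m => Units.ext ?_
      show psi w (MonoidAlgebra.single m 1) = _
      rw [psi_single, one_smul, hc]
    refine ⟨Function.LeftInverse.injective hleft, fun z => ⟨G z, ?_⟩⟩
    have h2 : (psi w).comp G = AlgHom.id L (L ⊗[K] A) :=
      Algebra.TensorProduct.ext (Subsingleton.elim _ _) (AlgHom.ext fun a => by
        have h3 := DFunLike.congr_fun hright a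
        have h4 := DFunLike.congr_fun hG a
        simp only [AlgHom.comp_apply, AlgHom.restrictScalars_apply, univ] at h3 h4 ⊢
        rw [h4, h3]
        rfl)
    exact DFunLike.congr_fun h2 z

/-- An affine scheme over an extension field, seen over the base field. -/
noncomputable def mapSp (S : Type u) [CommRing S] [Algebra K S] [Algebra L S] [IsScalarTower K L S] :
    (Over.map (Spec.map (CommRingCat.ofHom (algebraMap K L)))).obj (sp (K := L) S) ≅ sp (K := K) S :=
  Over.isoMk (Iso.refl _) (by
    show 𝟙 _ ≫ Spec.map _ = Spec.map _ ≫ Spec.map _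
    rw [Category.id_comp, ← Spec.map_comp, ← CommRingCat.ofHom_comp, ← IsScalarTower.algebraMap_eq])

theorem mapSp_naturality {S S' : Type u} [CommRing S] [Algebra K S] [Algebra L S] [IsScalarTower K L S]
    [CommRing S'] [Algebra K S'] [Algebra L S'] [IsScalarTower K L S'] (g : S →ₐ[L] S') :
    (Over.map (Spec.map (CommRingCat.ofHom (algebraMap K L)))).map (spMap (K := L) g) ≫ (mapSp S).hom =
      (mapSp S').hom ≫ spMap (K := K) (g.restrictScalars K) := by
  apply Over.OverMorphism.ext
  simp [mapSp, spMap]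

theorem exists_split [GrpObj T] [IsAffine T.left]
    (hs : Red.IsSplitTorusWith (Fin n → ℤ) (Red.bc (Spec.map (CommRingCat.ofHom (algebraMap K L))) T))
    (Δ : (Γ(T.left, ⊤) : Type u) →ₐ[K] (Γ(T.left, ⊤) : Type u) ⊗[K] (Γ(T.left, ⊤) : Type u))
    (hΔ : ∀ (S : Type u) [CommRing S] [Algebra K S] (x y : (Γ(T.left, ⊤) : Type u) →ₐ[K] S),
        ofA T (pmul Δ x y) = ofA T x * ofA T y) :
    ∃ w : Fin n → (L ⊗[K] (Γ(T.left, ⊤) : Type u))ˣ, IsSplit Δ w := by
  obtain ⟨e⟩ := hs
  let f := Spec.map (CommRingCat.ofHom (algebraMap K L))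
  let e' : Red.bc f T ≅ Red.DS (Spec (CommRingCat.of L)) (Fin n → ℤ) := (Grp.forget _).mapIso e
  have : IsMonHom e'.hom := e.hom.hom.isMonHom_hom
  let π : ∀ (S : Type u) [CommRing S] [Algebra K S] [Algebra L S] [IsScalarTower K L S],
      ((Γ(T.left, ⊤) : Type u) →ₐ[K] S) → (sp (K := L) S ⟶ Red.DS (Spec (CommRingCat.of L)) (Fin n → ℤ)) :=
    fun S _ _ _ _ x => RedPts82.ofBase f ((mapSp S).hom ≫ ofA T x) ≫ e'.hom
  have hπ : ∀ (S : Type u) [CommRing S] [Algebra K S] [Algebra L S] [IsScalarTower K L S],
      Function.Bijective (π S) := by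
    intro S _ _ _ _
    have hc : ∀ p : sp (K := K) S ⟶ T,
        Function.Bijective (fun (x : (Γ(T.left, ⊤) : Type u) →ₐ[K] S) => ofA T x) := fun _ => ofA_bijective S
    constructor
    · intro x y hxy
      have h1 := congrArg (RedPts82.toBase f) ((cancel_mono e'.hom).mp hxy)
      rw [RedPts82.toBase_ofBase, RedPts82.toBase_ofBase, cancel_epi] at h1
      exact (ofA_bijective S).1 h1
    · intro p
      obtain ⟨x, hx⟩ := (ofA_bijective (T := T) S).2 ((mapSp S).inv ≫ RedPts82.toBase f (p ≫ e'.inv))
      refine ⟨x, (Iso.eq_comp_inv e').mp ?_⟩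
      apply RedPts82.toBase_injective f
      rw [RedPts82.toBase_ofBase, hx, Iso.hom_inv_id_assoc]
  let V : ∀ (S : Type u) [CommRing S] [Algebra K S] [Algebra L S] [IsScalarTower K L S],
      ((Γ(T.left, ⊤) : Type u) →ₐ[K] S) → (Multiplicative (Fin n → ℤ) →* Sˣ) := fun S _ _ _ _ x =>
    (Units.map ((AlgEquiv.ofBijective (toSec (K := L) S) toSec_bijective).symm.toRingEquiv.toMonoidHom)).comp
      (MonoidHom.toHomUnits
        { toFun := fun m => RedPts82.dsFn (π S x) (Multiplicative.toAdd m)
          map_one' := RedPts82.dsFn_zero _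
          map_mul' := fun a b => RedPts82.dsFn_add _ _ _ })
  have hV : ∀ (S : Type u) [CommRing S] [Algebra K S] [Algebra L S] [IsScalarTower K L S] x m,
      toSec (K := L) S (V S x m : S) = RedPts82.dsFn (π S x) (Multiplicative.toAdd m) := by
    intro S _ _ _ _ x m
    exact (AlgEquiv.ofBijective (toSec (K := L) S) toSec_bijective).apply_symm_apply _
  refine exists_split_of_values Δ V (fun S _ _ _ _ => ⟨?_, ?_⟩) ?_ ?_
  · intro x y hxy
    refine (hπ S).1 (RedPts82.dsFn_injective fun m => ?_)
    have := congrArg (fun c => toSec (K := L) S (c (Multiplicative.ofAdd m) : Sˣ)) hxy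
    simp only [hV] at this
    exact this
  · intro c
    obtain ⟨t, ht⟩ := RedPts82.dsFn_surjective (S := Spec (CommRingCat.of L)) (X := sp (K := L) S)
      ((toSec (K := L) S : S →* _).comp ((Units.coeHom S).comp c))
    obtain ⟨x, hx⟩ := (hπ S).2 t
    refine ⟨x, MonoidHom.ext fun m => Units.ext (toSec_bijective.injective (f := toSec (K := L) S) ?_)⟩
    rw [hV, hx, ht]
    rfl
  · intro S S' _ _ _ _ _ _ _ _ g x
    refine MonoidHom.ext fun m => Units.ext (toSec_bijective.injective (f := toSec (K := L) S') ?_)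
    rw [hV]
    have h1 : π S' ((g.restrictScalars K).comp x) = spMap (K := L) g ≫ π S x := by
      show RedPts82.ofBase f _ ≫ e'.hom = spMap (K := L) g ≫ RedPts82.ofBase f _ ≫ e'.hom
      rw [← Category.assoc (spMap (K := L) g)]
      congr 1
      apply RedPts82.toBase_injective f
      rw [RedPts82.toBase_comp, RedPts82.toBase_ofBase, RedPts82.toBase_ofBase, ← Category.assoc,
        mapSp_naturality, Category.assoc, comp_ofA]
    rw [h1, RedPts82.dsFn_comp, ← hV]
    exact secMap_spMap g (V S x m : S)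
  · intro S _ _ _ _ x y
    refine MonoidHom.ext fun m => Units.ext (toSec_bijective.injective (f := toSec (K := L) S) ?_)
    rw [hV, MonoidHom.mul_apply, Units.val_mul, map_mul, hV, hV]
    have h1 : π S (pmul Δ x y) = π S x * π S y := by
      show RedPts82.ofBase f _ ≫ e'.hom = (RedPts82.ofBase f _ ≫ e'.hom) * (RedPts82.ofBase f _ ≫ e'.hom)
      rw [← MonObj.mul_comp]
      congr 1
      apply RedPts82.toBase_injective f
      rw [RedPts82.toBase_mul, RedPts82.toBase_ofBase, RedPts82.toBase_ofBase, RedPts82.toBase_ofBase, hΔ,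
        MonObj.comp_mul]
    rw [h1, RedPts82.dsFn_mul]

end Field

end Groth.Agent.Tori96
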