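import Mathlib

/-!
Characters of an affine group given by a comultiplication, and algebras split by characters.
-/

universe u

open scoped TensorProduct

set_option autoImplicit false

namespace Groth.Agent.Tori96

variable {K : Type u} [Field K] {A : Type u} [CommRing A] [Algebra K A]

/-- Base change of the scalars in `R ⊗ A`. -/
noncomputable abbrev mapL (A : Type u) [CommRing A] [Algebra K A] {R R' : Type u} [CommRing R]
    [Algebra K R] [CommRing R'] [Algebra K R'] (ρ : R →ₐ[K] R') : R ⊗[K] A →ₐ[K] R' ⊗[K] A :=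
  Algebra.TensorProduct.map ρ (AlgHom.id K A)

/-- A morphism of the second factor. -/
noncomputable abbrev mapR (R : Type u) [CommRing R] [Algebra K R] {B : Type u} [CommRing B]
    [Algebra K B] (f : A →ₐ[K] B) : R ⊗[K] A →ₐ[K] R ⊗[K] B :=
  Algebra.TensorProduct.map (AlgHom.id K R) f

/-- Evaluation at an `S`-valued point. -/
noncomputable abbrev evalAt {R S : Type u} [CommRing R] [Algebra K R] [CommRing S] [Algebra K S]
    (ρ : R →ₐ[K] S) (x : A →ₐ[K] S) : R ⊗[K] A →ₐ[K] S :=
  Algebra.TensorProduct.productMap ρ x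

theorem evalAt_mapR {R S B : Type u} [CommRing R] [Algebra K R] [CommRing S] [Algebra K S]
    [CommRing B] [Algebra K B] (ρ : R →ₐ[K] S) (x : B →ₐ[K] S) (f : A →ₐ[K] B) (z : R ⊗[K] A) :
    evalAt ρ x (mapR R f z) = evalAt ρ (x.comp f) z := by
  induction z using TensorProduct.induction_on with
  | zero => simp
  | tmul r a => simp
  | add z w hz hw => rw [map_add, map_add, hz, hw, map_add]

theorem evalAt_mapL {R R' S : Type u} [CommRing R] [Algebra K R] [CommRing R'] [Algebra K R']
    [CommRing S] [Algebra K S] (ρ : R →ₐ[K] R') (τ : R' →ₐ[K] S) (x : A →ₐ[K] S) (z : R ⊗[K] A) :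
    evalAt τ x (mapL A ρ z) = evalAt (τ.comp ρ) x z := by
  induction z using TensorProduct.induction_on with
  | zero => simp
  | tmul r a => simp
  | add z w hz hw => rw [map_add, map_add, hz, hw, map_add]

theorem comp_evalAt {R S S' : Type u} [CommRing R] [Algebra K R] [CommRing S] [Algebra K S]
    [CommRing S'] [Algebra K S'] (f : S →ₐ[K] S') (ρ : R →ₐ[K] S) (x : A →ₐ[K] S) (z : R ⊗[K] A) :
    f (evalAt ρ x z) = evalAt (f.comp ρ) (f.comp x) z := by
  induction z using TensorProduct.induction_on with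
  | zero => simp
  | tmul r a => simp
  | add z w hz hw => rw [map_add, map_add, map_add, hz, hw]

variable (Δ : A →ₐ[K] A ⊗[K] A)

/-- The product of two points. -/
noncomputable def pmul {S : Type u} [CommRing S] [Algebra K S] (x y : A →ₐ[K] S) : A →ₐ[K] S :=
  (Algebra.TensorProduct.productMap x y).comp Δ

theorem comp_pmul {S S' : Type u} [CommRing S] [Algebra K S] [CommRing S'] [Algebra K S']
    (f : S →ₐ[K] S') (x y : A →ₐ[K] S) : f.comp (pmul Δ x y) = pmul Δ (f.comp x) (f.comp y) := by
  refine AlgHom.ext fun a => ?_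
  show f (Algebra.TensorProduct.productMap x y (Δ a)) = _
  exact comp_evalAt f x y (Δ a)

/-- A unit of `R ⊗ A` is a character when it is multiplicative on points. -/
def IsChar {R : Type u} [CommRing R] [Algebra K R] (u : (R ⊗[K] A)ˣ) : Prop :=
  mapR R Δ (u : R ⊗[K] A) =
    mapR R Algebra.TensorProduct.includeLeft (u : R ⊗[K] A) *
      mapR R Algebra.TensorProduct.includeRight (u : R ⊗[K] A)

variable {Δ} {R R' : Type u} [CommRing R] [Algebra K R] [CommRing R'] [Algebra K R']

theorem IsChar.evalAt_pmul {u : (R ⊗[K] A)ˣ} (hu : IsChar Δ u) {S : Type u} [CommRing S] [Algebra K S]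
    (ρ : R →ₐ[K] S) (x y : A →ₐ[K] S) :
    evalAt ρ (pmul Δ x y) (u : R ⊗[K] A) =
      evalAt ρ x (u : R ⊗[K] A) * evalAt ρ y (u : R ⊗[K] A) := by
  rw [pmul, ← evalAt_mapR, hu, map_mul, evalAt_mapR, evalAt_mapR,
    Algebra.TensorProduct.productMap_left, Algebra.TensorProduct.productMap_right]

theorem IsChar.mul {u v : (R ⊗[K] A)ˣ} (hu : IsChar Δ u) (hv : IsChar Δ v) : IsChar Δ (u * v) := by
  unfold IsChar at *
  rw [Units.val_mul, map_mul, map_mul, map_mul, hu, hv]
  exact mul_mul_mul_comm _ _ _ _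

theorem IsChar.one : IsChar Δ (1 : (R ⊗[K] A)ˣ) := by simp [IsChar]

theorem IsChar.inv {u : (R ⊗[K] A)ˣ} (hu : IsChar Δ u) : IsChar Δ u⁻¹ := by
  have e : ∀ (B : Type u) [CommRing B] [Algebra K B] (f : A →ₐ[K] B),
      mapR R f (u : R ⊗[K] A) * mapR R f ((u⁻¹ : (R ⊗[K] A)ˣ) : R ⊗[K] A) = 1 := fun B _ _ f => by
    rw [← map_mul, Units.mul_inv, map_one]
  have huu : IsUnit (mapR R Δ (u : R ⊗[K] A)) := u.isUnit.map _
  apply huu.mul_left_cancel
  rw [e]
  conv_rhs => rw [hu, mul_mul_mul_comm, e, e, one_mul]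

variable (Δ R) in
/-- The group of characters. -/
def charGroup : Subgroup (R ⊗[K] A)ˣ where
  carrier := {u | IsChar Δ u}
  mul_mem' := IsChar.mul
  one_mem' := IsChar.one
  inv_mem' := IsChar.inv

theorem IsChar.map {u : (R ⊗[K] A)ˣ} (hu : IsChar Δ u) (ρ : R →ₐ[K] R') :
    IsChar Δ (Units.map (mapL A ρ : R ⊗[K] A →* R' ⊗[K] A) u) := by
  have key : ∀ (B : Type u) [CommRing B] [Algebra K B] (f : A →ₐ[K] B) (z : R ⊗[K] A),
      mapR R' f (mapL A ρ z) = mapL B ρ (mapR R f z) := fun B _ _ f z => by
    induction z using TensorProduct.induction_on with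
    | zero => simp
    | tmul r a => simp
    | add z w hz hw => rw [map_add, map_add, hz, hw, map_add, map_add]
  show mapR R' Δ (mapL A ρ (u : R ⊗[K] A)) = mapR R' _ (mapL A ρ (u : R ⊗[K] A)) *
    mapR R' _ (mapL A ρ (u : R ⊗[K] A))
  rw [key, key, key, ← map_mul]
  exact congrArg _ hu

theorem IsChar.of_map {u : (R ⊗[K] A)ˣ} (ρ : R →ₐ[K] R') (hρ : Function.Injective ρ)
    (hu : IsChar Δ (Units.map (mapL A ρ : R ⊗[K] A →* R' ⊗[K] A) u)) : IsChar Δ u := by
  have key : ∀ (B : Type u) [CommRing B] [Algebra K B] (f : A →ₐ[K] B) (z : R ⊗[K] A),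
      mapR R' f (mapL A ρ z) = mapL B ρ (mapR R f z) := fun B _ _ f z => by
    induction z using TensorProduct.induction_on with
    | zero => simp
    | tmul r a => simp
    | add z w hz hw => rw [map_add, map_add, hz, hw, map_add, map_add]
  apply Module.Flat.rTensor_preserves_injective_linearMap (R := K) (M := A ⊗[K] A) ρ.toLinearMap hρ
  show mapL (A ⊗[K] A) ρ _ = mapL (A ⊗[K] A) ρ _
  rw [map_mul, ← key, ← key, ← key]
  exact hu

variable {n : ℕ}

/-- The monomial in given units with given exponents. -/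
def mon {G : Type u} [CommGroup G] (w : Fin n → G) : Multiplicative (Fin n → ℤ) →* G where
  toFun m := ∏ i, w i ^ (Multiplicative.toAdd m i)
  map_one' := by simp
  map_mul' a b := by
    rw [← Finset.prod_mul_distrib]
    exact Finset.prod_congr rfl fun i _ => zpow_add _ _ _

theorem mon_single {G : Type u} [CommGroup G] (w : Fin n → G) (i : Fin n) :
    mon w (Multiplicative.ofAdd (Pi.single i 1)) = w i := by
  classical
  show ∏ j, w j ^ (Pi.single i (1 : ℤ) : Fin n → ℤ) j = w i
  rw [Finset.prod_eq_single i (fun j _ hj => by rw [Pi.single_eq_of_ne hj, zpow_zero])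
    (fun h => absurd (Finset.mem_univ i) h), Pi.single_eq_same, zpow_one]

theorem map_mon {G G' : Type u} [CommGroup G] [CommGroup G'] (f : G →* G') (w : Fin n → G)
    (m : Multiplicative (Fin n → ℤ)) : f (mon w m) = mon (f ∘ w) m := by
  simp [mon, map_prod, map_zpow]

theorem isChar_mon {w : Fin n → (R ⊗[K] A)ˣ} (hw : ∀ i, IsChar Δ (w i))
    (m : Multiplicative (Fin n → ℤ)) : IsChar Δ (mon w m) :=
  (charGroup Δ R).prod_mem fun i _ => (charGroup Δ R).zpow_mem (hw i) _

/-- Laurent polynomials in `n` variables. -/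
abbrev LP (n : ℕ) (R : Type u) [CommRing R] : Type u := MonoidAlgebra R (Multiplicative (Fin n → ℤ))

/-- The algebra map given by a family of units of `R ⊗ A`. -/
noncomputable def psi (w : Fin n → (R ⊗[K] A)ˣ) : LP n R →ₐ[R] R ⊗[K] A :=
  MonoidAlgebra.lift R (R ⊗[K] A) (Multiplicative (Fin n → ℤ))
    ((Units.coeHom (R ⊗[K] A)).comp (mon w))

theorem psi_single (w : Fin n → (R ⊗[K] A)ˣ) (m : Multiplicative (Fin n → ℤ)) (r : R) :
    psi w (MonoidAlgebra.single m r) = r • ((mon w m : (R ⊗[K] A)ˣ) : R ⊗[K] A) := by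
  simp [psi, MonoidAlgebra.lift_single]

variable (Δ) in
/-- `A` becomes split over `R`, with the given characters. -/
def IsSplit (w : Fin n → (R ⊗[K] A)ˣ) : Prop :=
  (∀ i, IsChar Δ (w i)) ∧ Function.Bijective (psi w)

theorem mon_injective [Nontrivial R] {w : Fin n → (R ⊗[K] A)ˣ} (hw : IsSplit Δ w) :
    Function.Injective (mon w) := by
  intro a b hab
  have h : psi w (MonoidAlgebra.single a 1) = psi w (MonoidAlgebra.single b 1) := by
    rw [psi_single, psi_single, hab]
  exact MonoidAlgebra.single_left_injective one_ne_zero (hw.2.1 h)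

theorem ext_of_split {w : Fin n → (R ⊗[K] A)ˣ} (hw : IsSplit Δ w) {S : Type u} [CommRing S]
    [Algebra K S] {f g : R ⊗[K] A →ₐ[K] S}
    (hR : f.comp Algebra.TensorProduct.includeLeft = g.comp Algebra.TensorProduct.includeLeft)
    (h : ∀ i, f (w i : R ⊗[K] A) = g (w i : R ⊗[K] A)) : f = g := by
  refine AlgHom.ext fun z => ?_
  obtain ⟨p, rfl⟩ := hw.2.2 z
  have hu : (Units.map (f : R ⊗[K] A →* S)) ∘ w = (Units.map (g : R ⊗[K] A →* S)) ∘ w :=
    funext fun i => Units.ext (h i)
  induction p using MonoidAlgebra.induction_linear with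
  | zero => simp
  | add p q hp hq => rw [map_add, map_add, map_add, hp, hq]
  | single m r =>
    rw [psi_single, Algebra.smul_def, map_mul, map_mul]
    have h1 : f (algebraMap R (R ⊗[K] A) r) = g (algebraMap R (R ⊗[K] A) r) := DFunLike.congr_fun hR r
    have h2 : f (mon w m : (R ⊗[K] A)ˣ) = g (mon w m : (R ⊗[K] A)ˣ) := by
      have := map_mon (Units.map (f : R ⊗[K] A →* S)) w m
      rw [hu, ← map_mon (Units.map (g : R ⊗[K] A →* S)) w m] at this
      exact congrArg Units.val this
    rw [h1, h2]

/-- Over a connected ring all characters are monomials in the splitting ones. -/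
theorem exists_eq_mon [Nontrivial R] (hconn : ∀ e : R, e * e = e → e = 0 ∨ e = 1)
    {w : Fin n → (R ⊗[K] A)ˣ} (hw : IsSplit Δ w) {v : (R ⊗[K] A)ˣ} (hv : IsChar Δ v) :
    ∃ m, v = mon w m := by
  classical
  let e := AlgEquiv.ofBijective (psi w) hw.2
  let M := Multiplicative (Fin n → ℤ)
  let il : LP n R →ₐ[R] MonoidAlgebra R (M × M) :=
    MonoidAlgebra.mapDomainAlgHom R R (MonoidHom.inl M M)
  let ir : LP n R →ₐ[R] MonoidAlgebra R (M × M) :=
    MonoidAlgebra.mapDomainAlgHom R R (MonoidHom.inr M M)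
  let idg : LP n R →ₐ[R] MonoidAlgebra R (M × M) :=
    MonoidAlgebra.mapDomainAlgHom R R ((MonoidHom.id M).prod (MonoidHom.id M))
  let ρ : R →ₐ[K] MonoidAlgebra R (M × M) := IsScalarTower.toAlgHom K R _
  let F : (LP n R →ₐ[R] MonoidAlgebra R (M × M)) → (R ⊗[K] A →ₐ[K] MonoidAlgebra R (M × M)) :=
    fun g => (g.comp e.symm.toAlgHom).restrictScalars K
  let x : A →ₐ[K] MonoidAlgebra R (M × M) := (F il).comp Algebra.TensorProduct.includeRight
  let y : A →ₐ[K] MonoidAlgebra R (M × M) := (F ir).comp Algebra.TensorProduct.includeRight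
  have hlr : ∀ c c' : M, MonoidHom.inl M M c * MonoidHom.inr M M c' = (c, c') :=
    fun c c' => Prod.ext (mul_one c) (one_mul c')
  have hdd : ∀ c : M, (MonoidHom.id M).prod (MonoidHom.id M) c = (c, c) := fun c => rfl
  have hF : ∀ (g : LP n R →ₐ[R] MonoidAlgebra R (M × M)) (m : M),
      F g (mon w m : (R ⊗[K] A)ˣ) = g (MonoidAlgebra.single m 1) := by
    intro g m
    show g (e.symm _) = _
    congr 1
    rw [AlgEquiv.symm_apply_eq]
    show _ = psi w _
    rw [psi_single, one_smul]
  have hsc : ∀ (g : LP n R →ₐ[R] MonoidAlgebra R (M × M)) (r : R), F g (r ⊗ₜ 1) = ρ r := by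
    intro g r
    show g (e.symm (algebraMap R (R ⊗[K] A) r)) = _
    rw [e.symm.commutes, g.commutes]
    rfl
  have hev : ∀ g : LP n R →ₐ[R] MonoidAlgebra R (M × M),
      evalAt ρ ((F g).comp Algebra.TensorProduct.includeRight) = F g := by
    intro g
    refine Algebra.TensorProduct.ext ?_ ?_
    · refine AlgHom.ext fun r => ?_
      simp only [AlgHom.comp_apply, Algebra.TensorProduct.includeLeft_apply,
        Algebra.TensorProduct.productMap_left_apply]
      exact (hsc g r).symm
    · exact Algebra.TensorProduct.productMap_right _ _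
  have hdiag : evalAt ρ (pmul Δ x y) = F idg := by
    refine ext_of_split hw ?_ fun i => ?_
    · refine AlgHom.ext fun r => ?_
      simp only [AlgHom.comp_apply, Algebra.TensorProduct.includeLeft_apply,
        Algebra.TensorProduct.productMap_left_apply]
      exact (hsc _ r).symm
    · rw [(hw.1 i).evalAt_pmul, hev, hev, ← mon_single w i, hF, hF, hF]
      simp [il, ir, idg, MonoidAlgebra.single_mul_single]
      rw [hlr]
      rfl
  have key : idg (e.symm v) = il (e.symm v) * ir (e.symm v) := by
    have h1 := hv.evalAt_pmul ρ x y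
    rw [hdiag, hev, hev] at h1
    exact h1
  set p := e.symm (v : R ⊗[K] A) with hp
  -- coefficients of a product of the two inclusions
  have hprod : ∀ (q q' : LP n R) (a b : M), (il q * ir q').coeff (a, b) = q.coeff a * q'.coeff b := by
    intro q q' a b
    induction q using MonoidAlgebra.induction_linear with
    | zero => simp
    | add q₁ q₂ h₁ h₂ => simp [map_add, add_mul, h₁, h₂]
    | single c r =>
      induction q' using MonoidAlgebra.induction_linear with
      | zero => simp
      | add q₁ q₂ h₁ h₂ =>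
        rw [map_add, mul_add, MonoidAlgebra.coeff_add, MonoidAlgebra.coeff_add, Finsupp.add_apply,
          Finsupp.add_apply, h₁, h₂, mul_add]
      | single c' r' =>
        simp only [il, ir, MonoidAlgebra.mapDomainAlgHom_apply, MonoidAlgebra.mapDomain_single,
          MonoidAlgebra.single_mul_single, hlr, MonoidAlgebra.coeff_single, Finsupp.single_apply,
          Prod.ext_iff, ite_and]
        split_ifs <;> simp_all
  have hdg : ∀ (q : LP n R) (a b : M), (idg q).coeff (a, b) = if a = b then q.coeff a else 0 := by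
    intro q a b
    induction q using MonoidAlgebra.induction_linear with
    | zero => simp
    | add q₁ q₂ h₁ h₂ => simp [map_add, h₁, h₂]; split_ifs <;> simp
    | single c r =>
      simp only [idg, MonoidAlgebra.mapDomainAlgHom_apply, MonoidAlgebra.mapDomain_single, hdd,
        MonoidAlgebra.coeff_single, Finsupp.single_apply, Prod.ext_iff]
      by_cases hab : a = b
      · simp [hab]
      · rw [if_neg hab, if_neg]
        exact fun h => hab (h.1.symm.trans h.2)
  have hc : ∀ a b : M, (if a = b then p.coeff a else 0) = p.coeff a * p.coeff b := by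
    intro a b
    rw [← hdg, key, hprod]
  have hex : ∃ a, p.coeff a = 1 := by
    by_contra hno
    have hall : ∀ a, p.coeff a = 0 := fun a => by
      rcases hconn (p.coeff a) (by rw [← hc a a, if_pos rfl]) with h | h
      · exact h
      · exact absurd ⟨a, h⟩ hno
    have hp0 : p = 0 := MonoidAlgebra.coeff_injective (Finsupp.ext hall)
    have hv0 : (v : R ⊗[K] A) = 0 := by rw [← e.apply_symm_apply (v : R ⊗[K] A), ← hp, hp0, map_zero]
    have h10 : (1 : R ⊗[K] A) = 0 := isUnit_zero_iff.mp (hv0 ▸ v.isUnit) |>.symm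
    have : Subsingleton (R ⊗[K] A) := subsingleton_of_zero_eq_one h10.symm
    have : Subsingleton (LP n R) := e.toEquiv.subsingleton
    exact one_ne_zero (α := R) (MonoidAlgebra.single_right_injective (m := (1 : M))
      (Subsingleton.elim (MonoidAlgebra.single 1 1) (MonoidAlgebra.single 1 0)))
  obtain ⟨a, ha⟩ := hex
  have hpeq : p = MonoidAlgebra.single a 1 := by
    refine MonoidAlgebra.coeff_injective (Finsupp.ext fun b => ?_)
    rw [MonoidAlgebra.coeff_single, Finsupp.single_apply]
    have := hc a b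
    rw [ha, one_mul] at this
    split_ifs with hab
    · rw [← hab, ha]
    · rw [if_neg hab] at this; exact this.symm
  refine ⟨a, Units.ext ?_⟩
  rw [← e.apply_symm_apply (v : R ⊗[K] A), ← hp, hpeq]
  show psi w _ = _
  rw [psi_single, one_smul]

/-- Splittings are stable under change of scalars. -/
theorem IsSplit.map {w : Fin n → (R ⊗[K] A)ˣ} (hw : IsSplit Δ w) (ρ : R →ₐ[K] R') :
    IsSplit Δ (fun i => Units.map (mapL A ρ : R ⊗[K] A →* R' ⊗[K] A) (w i)) := by
  set w' := fun i => Units.map (mapL A ρ : R ⊗[K] A →* R' ⊗[K] A) (w i) with hw'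
  refine ⟨fun i => (hw.1 i).map ρ, ?_⟩
  let e := AlgEquiv.ofBijective (psi w) hw.2
  let base : LP n R →ₐ[K] LP n R' := MonoidAlgebra.mapAlgHom (Multiplicative (Fin n → ℤ)) ρ
  let inv : R' ⊗[K] A →ₐ[K] LP n R' :=
    evalAt (IsScalarTower.toAlgHom K R' (LP n R'))
      ((base.comp (e.symm.toAlgHom.restrictScalars K)).comp Algebra.TensorProduct.includeRight)
  have hmon : ∀ m, ((mon w' m : (R' ⊗[K] A)ˣ) : R' ⊗[K] A) = mapL A ρ (mon w m : (R ⊗[K] A)ˣ) :=
    fun m => congrArg Units.val (map_mon (Units.map (mapL A ρ : R ⊗[K] A →* R' ⊗[K] A)) w m).symm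
  have hsq : inv.comp (mapL A ρ) = base.comp (e.symm.toAlgHom.restrictScalars K) := by
    refine Algebra.TensorProduct.ext (AlgHom.ext fun r => ?_) (AlgHom.ext fun a => ?_)
    · simp only [inv, AlgHom.comp_apply, Algebra.TensorProduct.includeLeft_apply,
        Algebra.TensorProduct.map_tmul, AlgHom.id_apply, map_one, Algebra.TensorProduct.productMap_left_apply]
      show algebraMap R' (LP n R') (ρ r) = base (e.symm (algebraMap R (R ⊗[K] A) r))
      rw [e.symm.commutes]
      simp [base, MonoidAlgebra.mapAlgHom, MonoidAlgebra.coe_algebraMap]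
    · simp [inv, ← MonoidAlgebra.one_def]
  have hleft : ∀ q : LP n R', inv (psi w' q) = q := by
    intro q
    induction q using MonoidAlgebra.induction_linear with
    | zero => simp
    | add p q hp hq => rw [map_add, map_add, hp, hq]
    | single m r =>
      rw [psi_single, hmon, Algebra.smul_def, map_mul]
      have h2 := DFunLike.congr_fun hsq ((mon w m : (R ⊗[K] A)ˣ) : R ⊗[K] A)
      have h3 : e.symm.toAlgHom.restrictScalars K (mon w m : (R ⊗[K] A)ˣ) = MonoidAlgebra.single m 1 := by
        show e.symm _ = _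
        rw [AlgEquiv.symm_apply_eq]
        show _ = psi w _
        rw [psi_single, one_smul]
      rw [AlgHom.comp_apply, AlgHom.comp_apply, h3] at h2
      rw [h2]
      have h4 : inv (algebraMap R' (R' ⊗[K] A) r) = algebraMap R' (LP n R') r :=
        Algebra.TensorProduct.productMap_left_apply _ _ r
      rw [h4]
      simp [base, MonoidAlgebra.mapAlgHom, MonoidAlgebra.coe_algebraMap, MonoidAlgebra.single_mul_single]
  refine ⟨Function.LeftInverse.injective hleft, fun z => ?_⟩
  induction z using TensorProduct.induction_on with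
  | zero => exact ⟨0, map_zero _⟩
  | add z w hz hw =>
    obtain ⟨p, rfl⟩ := hz
    obtain ⟨q, rfl⟩ := hw
    exact ⟨p + q, map_add _ _ _⟩
  | tmul r a =>
    refine ⟨r • base (e.symm (1 ⊗ₜ a)), ?_⟩
    have hsq2 : ∀ q : LP n R, psi w' (base q) = mapL A ρ (psi w q) := by
      intro q
      induction q using MonoidAlgebra.induction_linear with
      | zero => simp
      | add p q hp hq => simp only [map_add, hp, hq]
      | single m r =>
        have hb : base (MonoidAlgebra.single m r) = MonoidAlgebra.single m (ρ r) := by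
          simp [base, MonoidAlgebra.mapAlgHom]
        rw [hb, psi_single, psi_single, hmon, Algebra.smul_def, Algebra.smul_def, map_mul]
        simp
    rw [map_smul, hsq2]
    show r • mapL A ρ (e (e.symm (1 ⊗ₜ a))) = _
    rw [e.apply_symm_apply]
    simp [TensorProduct.smul_tmul']

end Groth.Agent.Tori96
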