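import Groth.Agent.Tori96.Char

/-!
A split algebra becomes split over a finite Galois extension.
-/

universe u

open scoped TensorProduct

set_option autoImplicit false

namespace Groth.Agent.Tori96

variable {K : Type u} [Field K] {A : Type u} [CommRing A] [Algebra K A] {Δ : A →ₐ[K] A ⊗[K] A} {n : ℕ}

theorem psi_map {R R' : Type u} [CommRing R] [Algebra K R] [CommRing R'] [Algebra K R']
    (w : Fin n → (R ⊗[K] A)ˣ) (ρ : R →ₐ[K] R') (q : LP n R) :
    psi (fun i => Units.map (mapL A ρ : R ⊗[K] A →* R' ⊗[K] A) (w i))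
        (MonoidAlgebra.mapAlgHom (Multiplicative (Fin n → ℤ)) ρ q) = mapL A ρ (psi w q) := by
  induction q using MonoidAlgebra.induction_linear with
  | zero => simp
  | add p q hp hq => simp only [map_add, hp, hq]
  | single m r =>
    have hb : MonoidAlgebra.mapAlgHom (Multiplicative (Fin n → ℤ)) ρ (MonoidAlgebra.single m r) =
        MonoidAlgebra.single m (ρ r) := by simp [MonoidAlgebra.mapAlgHom]
    have hm : ((mon (fun i => Units.map (mapL A ρ : R ⊗[K] A →* R' ⊗[K] A) (w i)) m :
        (R' ⊗[K] A)ˣ) : R' ⊗[K] A) = mapL A ρ (mon w m : (R ⊗[K] A)ˣ) :=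
      congrArg Units.val (map_mon (Units.map (mapL A ρ : R ⊗[K] A →* R' ⊗[K] A)) w m).symm
    rw [hb, psi_single, psi_single, hm, Algebra.smul_def, Algebra.smul_def, map_mul]
    simp

theorem mapL_injective {R R' : Type u} [CommRing R] [Algebra K R] [CommRing R'] [Algebra K R']
    (ρ : R →ₐ[K] R') (hρ : Function.Injective ρ) : Function.Injective (mapL A ρ) :=
  Module.Flat.rTensor_preserves_injective_linearMap (R := K) (M := A) ρ.toLinearMap hρ

theorem map_psi_injective {R R' : Type u} [CommRing R] [Algebra K R] [CommRing R'] [Algebra K R']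
    (w : Fin n → (R ⊗[K] A)ˣ) (ρ : R →ₐ[K] R') (hρ : Function.Injective ρ)
    (h : Function.Injective (psi fun i => Units.map (mapL A ρ : R ⊗[K] A →* R' ⊗[K] A) (w i))) :
    Function.Injective (psi w) := by
  intro p q hpq
  have hbase : Function.Injective (MonoidAlgebra.mapAlgHom (Multiplicative (Fin n → ℤ)) ρ) := by
    intro a b hab
    refine MonoidAlgebra.coeff_injective (Finsupp.ext fun m => hρ ?_)
    simpa [MonoidAlgebra.mapAlgHom] using congrArg (fun t => t.coeff m) hab
  exact hbase (h (by rw [psi_map, psi_map, hpq]))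

theorem exists_fg_range {L : Type u} [CommRing L] [Algebra K L] (z : L ⊗[K] A) :
    ∃ s : Finset L, ∀ R : Subalgebra K L, ↑s ⊆ (R : Set L) → z ∈ (mapL A R.val).range := by
  classical
  induction z using TensorProduct.induction_on with
  | zero => exact ⟨∅, fun R _ => zero_mem _⟩
  | tmul l a =>
    exact ⟨{l}, fun R hR => ⟨(⟨l, hR (Finset.mem_singleton_self l)⟩ : R) ⊗ₜ a, by simp⟩⟩
  | add z w hz hw =>
    obtain ⟨s, hs⟩ := hz
    obtain ⟨t, ht⟩ := hw
    refine ⟨s ∪ t, fun R hR => add_mem (hs R ?_) (ht R ?_)⟩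
    · exact fun x hx => hR (Finset.mem_union_left t hx)
    · exact fun x hx => hR (Finset.mem_union_right s hx)

theorem exists_fg_algebra {L : Type u} [CommRing L] [Algebra K L] (z : L ⊗[K] A) :
    ∃ t : Finset A, ∀ B : Subalgebra K A, ↑t ⊆ (B : Set A) → z ∈ (mapR L B.val).range := by
  classical
  induction z using TensorProduct.induction_on with
  | zero => exact ⟨∅, fun B _ => zero_mem _⟩
  | tmul l a =>
    exact ⟨{a}, fun B hB => ⟨l ⊗ₜ (⟨a, hB (Finset.mem_singleton_self a)⟩ : B), by simp⟩⟩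
  | add z w hz hw =>
    obtain ⟨s, hs⟩ := hz
    obtain ⟨t, ht⟩ := hw
    refine ⟨s ∪ t, fun B hB => add_mem (hs B ?_) (ht B ?_)⟩
    · exact fun x hx => hB (Finset.mem_union_left t hx)
    · exact fun x hx => hB (Finset.mem_union_right s hx)

theorem exists_generators {L : Type u} [Field L] [Algebra K L] {w : Fin n → (L ⊗[K] A)ˣ}
    (hw : IsSplit Δ w) : ∃ t : Finset A, Algebra.adjoin K (t : Set A) = ⊤ := by
  classical
  choose t ht using fun i => exists_fg_algebra (w i : L ⊗[K] A)
  choose t' ht' using fun i => exists_fg_algebra ((w i)⁻¹ : (L ⊗[K] A)ˣ).val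
  let T : Finset A := Finset.univ.biUnion t ∪ Finset.univ.biUnion t'
  let B := Algebra.adjoin K (T : Set A)
  refine ⟨T, eq_top_iff.mpr fun a _ => ?_⟩
  have hsurj : Function.Surjective (mapR L B.val) := by
    have hu : ∀ i, IsUnit ((w i : L ⊗[K] A)) := fun i => (w i).isUnit
    have h1 : ∀ i, (w i : L ⊗[K] A) ∈ (mapR L B.val).range := fun i => ht i B fun x hx =>
      Algebra.subset_adjoin (Finset.mem_union_left _ (Finset.mem_biUnion.mpr ⟨i, Finset.mem_univ i, hx⟩))
    have h2 : ∀ i, ((w i)⁻¹ : (L ⊗[K] A)ˣ).val ∈ (mapR L B.val).range := fun i => ht' i B fun x hx =>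
      Algebra.subset_adjoin (Finset.mem_union_right _ (Finset.mem_biUnion.mpr ⟨i, Finset.mem_univ i, hx⟩))
    let S : Subgroup (L ⊗[K] A)ˣ :=
      { carrier := {x | (x : L ⊗[K] A) ∈ (mapR L B.val).range ∧ (x⁻¹ : (L ⊗[K] A)ˣ).val ∈ (mapR L B.val).range}
        mul_mem' := fun {x y} hx hy => ⟨by rw [Units.val_mul]; exact mul_mem hx.1 hy.1,
          by rw [mul_inv_rev, Units.val_mul]; exact mul_mem hy.2 hx.2⟩
        one_mem' := ⟨by rw [Units.val_one]; exact one_mem _, by rw [inv_one, Units.val_one]; exact one_mem _⟩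
        inv_mem' := fun {x} hx => ⟨hx.2, by rw [inv_inv]; exact hx.1⟩ }
    intro z
    obtain ⟨p, rfl⟩ := hw.2.2 z
    show psi w p ∈ (mapR L B.val).range
    induction p using MonoidAlgebra.induction_linear with
    | zero => rw [map_zero]; exact zero_mem _
    | add p q hp hq => rw [map_add]; exact add_mem hp hq
    | single m r =>
      rw [psi_single, Algebra.smul_def]
      refine mul_mem ⟨r ⊗ₜ 1, by simp⟩ ?_
      exact ((S.prod_mem fun i _ => S.zpow_mem ⟨h1 i, h2 i⟩ _ : mon w m ∈ S)).1
  obtain ⟨b, hb⟩ := (Module.FaithfullyFlat.lTensor_surjective_iff_surjective K L B.val.toLinearMap).mp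
    hsurj a
  exact hb ▸ b.2

theorem exists_split_finite {L : Type u} [Field L] [Algebra K L] {w : Fin n → (L ⊗[K] A)ˣ}
    (hw : IsSplit Δ w) :
    ∃ (k : Type u) (_ : Field k) (_ : Algebra K k), Module.Finite K k ∧
      ∃ w' : Fin n → (k ⊗[K] A)ˣ, IsSplit Δ w' := by
  classical
  obtain ⟨t, ht⟩ := exists_generators hw
  choose p hp using fun a : t => hw.2.2 (1 ⊗ₜ (a : A))
  choose s hs using fun i => exists_fg_range (w i : L ⊗[K] A)
  choose s' hs' using fun i => exists_fg_range ((w i)⁻¹ : (L ⊗[K] A)ˣ).val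
  let S : Finset L := (Finset.univ.biUnion s ∪ Finset.univ.biUnion s') ∪
    Finset.univ.biUnion fun a : t => (p a).coeff.support.image fun m => (p a).coeff m
  let R := Algebra.adjoin K (S : Set L)
  have hinj : Function.Injective (mapL A R.val) := mapL_injective _ Subtype.val_injective
  choose u hu using fun i => hs i R fun x hx =>
    Algebra.subset_adjoin (Finset.mem_union_left _ (Finset.mem_union_left _
      (Finset.mem_biUnion.mpr ⟨i, Finset.mem_univ i, hx⟩)))
  choose u' hu' using fun i => hs' i R fun x hx =>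
    Algebra.subset_adjoin (Finset.mem_union_left _ (Finset.mem_union_right _
      (Finset.mem_biUnion.mpr ⟨i, Finset.mem_univ i, hx⟩)))
  have hu'' : ∀ i, mapL A R.val (u i) = (w i : L ⊗[K] A) := hu
  have hu''' : ∀ i, mapL A R.val (u' i) = ((w i)⁻¹ : (L ⊗[K] A)ˣ).val := hu'
  let wR : Fin n → (↥R ⊗[K] A)ˣ := fun i => Units.mkOfMulEqOne (u i) (u' i)
    (hinj (by rw [map_mul, hu'', hu''', Units.mul_inv, map_one]))
  have hwR : (fun i => Units.map (mapL A R.val : ↥R ⊗[K] A →* L ⊗[K] A) (wR i)) = w :=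
    funext fun i => Units.ext (hu'' i)
  have hsplit : IsSplit Δ wR := by
    refine ⟨fun i => IsChar.of_map R.val Subtype.val_injective ((congrFun hwR i).symm ▸ hw.1 i),
      map_psi_injective wR R.val Subtype.val_injective (hwR.symm ▸ hw.2.1), ?_⟩
    have hgen : ∀ a ∈ t, (1 : R) ⊗ₜ[K] a ∈ (psi wR).range := by
      intro a ha
      have hcoef : ∀ m, (p ⟨a, ha⟩).coeff m ∈ R := fun m => by
        by_cases hm : m ∈ (p ⟨a, ha⟩).coeff.support
        · exact Algebra.subset_adjoin (Finset.mem_union_right _ (Finset.mem_biUnion.mpr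
            ⟨⟨a, ha⟩, Finset.mem_univ _, Finset.mem_image.mpr ⟨m, hm, rfl⟩⟩))
        · rw [Finsupp.notMem_support_iff.mp hm]; exact zero_mem R
      let q : LP n R := (p ⟨a, ha⟩).coeff.support.sum fun m =>
        MonoidAlgebra.single m ⟨(p ⟨a, ha⟩).coeff m, hcoef m⟩
      refine ⟨q, hinj ?_⟩
      show mapL A R.val (psi wR q) = _
      rw [← psi_map, hwR, map_sum]
      have : (p ⟨a, ha⟩).coeff.support.sum (fun m =>
          MonoidAlgebra.mapAlgHom (Multiplicative (Fin n → ℤ)) R.val
            (MonoidAlgebra.single m ⟨(p ⟨a, ha⟩).coeff m, hcoef m⟩)) = p ⟨a, ha⟩ := by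
        refine MonoidAlgebra.coeff_injective (Finsupp.ext fun m => ?_)
        simp only [MonoidAlgebra.coeff_sum, Finsupp.finsetSum_apply]
        simp [MonoidAlgebra.mapAlgHom, Finsupp.single_apply]
        exact fun h => h.symm
      rw [this, hp]
      simp
    intro z
    induction z using TensorProduct.induction_on with
    | zero => exact ⟨0, map_zero _⟩
    | add z w hz hw =>
      obtain ⟨a, rfl⟩ := hz
      obtain ⟨b, rfl⟩ := hw
      exact ⟨a + b, map_add _ _ _⟩
    | tmul r a =>
      have hle : Algebra.adjoin K (t : Set A) ≤ ((psi wR).range.restrictScalars K).comap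
          (Algebra.TensorProduct.includeRight : A →ₐ[K] ↥R ⊗[K] A) :=
        Algebra.adjoin_le fun a ha => hgen a ha
      obtain ⟨q, hq⟩ := hle (ht.symm ▸ Algebra.mem_top : a ∈ Algebra.adjoin K (t : Set A))
      refine ⟨r • q, ?_⟩
      rw [map_smul]
      refine (congrArg (r • ·) hq).trans ?_
      simp [TensorProduct.smul_tmul']
  have : Algebra.FiniteType K R := (Subalgebra.fg_iff_finiteType _).mp (Subalgebra.fg_adjoin_finset _)
  obtain ⟨m, hm⟩ := Ideal.exists_maximal R
  let _ : Field (R ⧸ m) := Ideal.Quotient.field m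
  have : Algebra.FiniteType K (R ⧸ m) := Algebra.FiniteType.of_surjective (Ideal.Quotient.mkₐ K m)
    Ideal.Quotient.mk_surjective
  exact ⟨R ⧸ m, inferInstance, inferInstance, finite_of_finite_type_of_isJacobsonRing K (R ⧸ m),
    _, hsplit.map (Ideal.Quotient.mkₐ K m)⟩

/-- An element of a field equalised by the two inclusions comes from below. -/
theorem mem_range_of_tmul_eq {F E : Type u} [Field F] [Field E] [Algebra F E] (c : E)
    (h : (c ⊗ₜ[F] (1 : E) : E ⊗[F] E) = 1 ⊗ₜ c) : c ∈ (algebraMap F E).range := by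
  by_contra hc
  have hnot : c ∉ Submodule.span F {(1 : E)} := by
    rw [Submodule.mem_span_singleton]
    rintro ⟨a, ha⟩
    exact hc ⟨a, by rw [← ha, Algebra.smul_def, mul_one]⟩
  obtain ⟨φ, hφc, hφ⟩ := Submodule.exists_dual_map_eq_bot_of_notMem hnot inferInstance
  have h1 : φ 1 = 0 := by
    have : φ 1 ∈ Submodule.map φ (Submodule.span F {(1 : E)}) :=
      ⟨1, Submodule.mem_span_singleton_self 1, rfl⟩
    rwa [hφ, Submodule.mem_bot] at this
  obtain ⟨θ, hθ⟩ := (Algebra.linearMap F E).exists_leftInverse_of_injective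
    (LinearMap.ker_eq_bot.mpr (algebraMap F E).injective)
  have hθ1 : θ 1 = 1 := by simpa using LinearMap.congr_fun hθ 1
  have := congrArg (fun z => TensorProduct.lid F F (TensorProduct.map φ θ z)) h
  simp [h1, hθ1] at this
  exact hφc this

theorem idem_purelyInseparable {F E : Type u} [Field F] [Field E] [Algebra F E]
    [IsPurelyInseparable F E] (z : E ⊗[F] E) (hz : z * z = z) : z = 0 ∨ z = 1 := by
  obtain ⟨q, hq⟩ := ExpChar.exists F
  have : ExpChar (E ⊗[F] E) q :=
    expChar_of_injective_ringHom (algebraMap F (E ⊗[F] E)).injective q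
  have key : ∀ z : E ⊗[F] E, ∃ N, z ^ q ^ N ∈ (algebraMap F (E ⊗[F] E)).range := by
    intro z
    induction z using TensorProduct.induction_on with
    | zero => exact ⟨0, 0, by simp⟩
    | tmul a b =>
      obtain ⟨i, x, hx⟩ := IsPurelyInseparable.pow_mem F q a
      obtain ⟨j, y, hy⟩ := IsPurelyInseparable.pow_mem F q b
      refine ⟨i + j, x ^ q ^ j * y ^ q ^ i, ?_⟩
      rw [Algebra.TensorProduct.tmul_pow, pow_add]
      conv_rhs => rw [pow_mul, ← hx, mul_comm (q ^ i), pow_mul, ← hy, ← map_pow, ← map_pow]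
      rw [Algebra.algebraMap_eq_smul_one (x ^ q ^ j), Algebra.algebraMap_eq_smul_one (y ^ q ^ i),
        TensorProduct.smul_tmul_smul, Algebra.algebraMap_eq_smul_one, Algebra.TensorProduct.one_def]
    | add a b ha hb =>
      obtain ⟨i, x, hx⟩ := ha
      obtain ⟨j, y, hy⟩ := hb
      refine ⟨i + j, x ^ q ^ j + y ^ q ^ i, ?_⟩
      rw [add_pow_expChar_pow, map_add, map_pow, map_pow, hx, hy, ← pow_mul, ← pow_mul, ← pow_add,
        ← pow_add, add_comm j i]
  obtain ⟨N, c, hc⟩ := key z
  have hidem : IsIdempotentElem z := hz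
  have hpow : z ^ q ^ N = z := hidem.pow_eq (pow_ne_zero _ (expChar_pos F q).ne')
  rw [hpow] at hc
  subst hc
  rw [← map_mul] at hz
  rcases IsIdempotentElem.iff_eq_zero_or_one.mp
    (show IsIdempotentElem c from (algebraMap F (E ⊗[F] E)).injective hz) with rfl | rfl
  · left; exact map_zero _
  · right; exact map_one _

/-- Characters descend along purely inseparable extensions. -/
theorem exists_split_of_purelyInseparable {F E : Type u} [Field F] [Field E] [Algebra K F]
    [Algebra F E] [Algebra K E] [IsScalarTower K F E] [IsPurelyInseparable F E]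
    {w : Fin n → (E ⊗[K] A)ˣ} (hw : IsSplit Δ w) : ∃ w₀ : Fin n → (F ⊗[K] A)ˣ, IsSplit Δ w₀ := by
  classical
  let i₁ : E →ₐ[K] E ⊗[F] E := (Algebra.TensorProduct.includeLeft : E →ₐ[F] E ⊗[F] E).restrictScalars K
  let i₂ : E →ₐ[K] E ⊗[F] E := (Algebra.TensorProduct.includeRight : E →ₐ[F] E ⊗[F] E).restrictScalars K
  let mu : E ⊗[F] E →ₐ[K] E := (Algebra.TensorProduct.lmul' F (S := E)).restrictScalars K
  have hmu1 : mu.comp i₁ = AlgHom.id K E := AlgHom.ext fun x => by simp [mu, i₁]
  have hmu2 : mu.comp i₂ = AlgHom.id K E := AlgHom.ext fun x => by simp [mu, i₂]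
  have hmapcomp : ∀ (f : E →ₐ[K] E ⊗[F] E), mu.comp f = AlgHom.id K E →
      ∀ z : E ⊗[K] A, mapL A mu (mapL A f z) = z := by
    intro f hf z
    induction z using TensorProduct.induction_on with
    | zero => simp
    | tmul e a => simp [← AlgHom.comp_apply, hf]
    | add z w hz hw => rw [map_add, map_add, hz, hw]
  have heq : ∀ i, mapL A i₁ (w i : E ⊗[K] A) = mapL A i₂ (w i : E ⊗[K] A) := by
    intro i
    obtain ⟨m, hm⟩ := exists_eq_mon (fun e he => idem_purelyInseparable e he) (hw.map i₁)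
      ((hw.1 i).map i₂)
    have h1 := congrArg (Units.map (mapL A mu : (E ⊗[F] E) ⊗[K] A →* E ⊗[K] A)) hm
    rw [map_mon (G := ((E ⊗[F] E) ⊗[K] A)ˣ) (G' := (E ⊗[K] A)ˣ)
      (Units.map (mapL A mu : (E ⊗[F] E) ⊗[K] A →* E ⊗[K] A))] at h1
    have hw' : (Units.map (mapL A mu : (E ⊗[F] E) ⊗[K] A →* E ⊗[K] A)) ∘
        (fun j => Units.map (mapL A i₁ : E ⊗[K] A →* (E ⊗[F] E) ⊗[K] A) (w j)) = w :=
      funext fun j => Units.ext (hmapcomp i₁ hmu1 _)
    rw [hw'] at h1
    have h2 : mon w (Multiplicative.ofAdd (Pi.single i 1)) = mon w m := by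
      rw [mon_single, ← h1]
      exact (Units.ext (hmapcomp i₂ hmu2 _)).symm
    rw [← mon_injective hw h2, mon_single] at hm
    exact (congrArg Units.val hm).symm
  let bA := Module.Basis.ofVectorSpace K A
  let inc : F →ₐ[K] E := IsScalarTower.toAlgHom K F E
  have hdesc : ∀ z : E ⊗[K] A, mapL A i₁ z = mapL A i₂ z → z ∈ (mapL A inc).range := by
    intro z hz
    set c := TensorProduct.equivFinsuppOfBasisRight bA z with hc
    have hzc : z = c.sum fun k e => e ⊗ₜ bA k := by
      rw [hc, ← TensorProduct.equivFinsuppOfBasisRight_symm_apply, LinearEquiv.symm_apply_apply]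
    have hco' : ∀ (f : E →ₐ[K] E ⊗[F] E) (z' : E ⊗[K] A) k,
        TensorProduct.equivFinsuppOfBasisRight bA (mapL A f z') k =
          f (TensorProduct.equivFinsuppOfBasisRight bA z' k) := by
      intro f z' k
      induction z' using TensorProduct.induction_on with
      | zero => simp only [map_zero, Finsupp.coe_zero, Pi.zero_apply]
      | tmul e a =>
        rw [Algebra.TensorProduct.map_tmul, AlgHom.id_apply,
          TensorProduct.equivFinsuppOfBasisRight_apply_tmul_apply,
          TensorProduct.equivFinsuppOfBasisRight_apply_tmul_apply, map_smul]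
      | add z w hz hw =>
        rw [map_add, map_add, map_add, Finsupp.add_apply, Finsupp.add_apply, hz, hw, map_add]
    have hco : ∀ (f : E →ₐ[K] E ⊗[F] E) k,
        TensorProduct.equivFinsuppOfBasisRight bA (mapL A f z) k = f (c k) := fun f k => hco' f z k
    have hmem : ∀ k, c k ∈ (algebraMap F E).range := fun k => by
      have := congrArg (fun t => TensorProduct.equivFinsuppOfBasisRight bA t k) hz
      simp only [hco] at this
      exact mem_range_of_tmul_eq _ this
    rw [hzc]
    refine sum_mem fun k _ => ?_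
    obtain ⟨x, hx⟩ := hmem k
    exact ⟨x ⊗ₜ bA k, by simp [inc, hx]⟩
  have hinvEq : ∀ i, mapL A i₁ ((w i)⁻¹ : (E ⊗[K] A)ˣ).val = mapL A i₂ ((w i)⁻¹ : (E ⊗[K] A)ˣ).val := by
    intro i
    have := congrArg (fun u => u⁻¹) (Units.ext (heq i) :
      Units.map (mapL A i₁ : E ⊗[K] A →* (E ⊗[F] E) ⊗[K] A) (w i) =
        Units.map (mapL A i₂ : E ⊗[K] A →* (E ⊗[F] E) ⊗[K] A) (w i))
    simp only [← map_inv] at this
    exact congrArg Units.val this
  choose u hu using fun i => hdesc _ (heq i)
  choose u' hu' using fun i => hdesc _ (hinvEq i)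
  have hu'' : ∀ i, mapL A inc (u i) = (w i : E ⊗[K] A) := hu
  have hu''' : ∀ i, mapL A inc (u' i) = ((w i)⁻¹ : (E ⊗[K] A)ˣ).val := hu'
  have hinjinc : Function.Injective inc := (algebraMap F E).injective
  let w₀ : Fin n → (F ⊗[K] A)ˣ := fun i => Units.mkOfMulEqOne (u i) (u' i)
    (mapL_injective inc hinjinc (by rw [map_mul, hu'', hu''', Units.mul_inv, map_one]))
  have hw₀ : (fun i => Units.map (mapL A inc : F ⊗[K] A →* E ⊗[K] A) (w₀ i)) = w :=
    funext fun i => Units.ext (hu'' i)
  refine ⟨w₀, fun i => IsChar.of_map inc hinjinc ((congrFun hw₀ i).symm ▸ hw.1 i),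
    map_psi_injective w₀ inc hinjinc (hw₀.symm ▸ hw.2.1), ?_⟩
  obtain ⟨θ, hθ⟩ := (Algebra.linearMap F E).exists_leftInverse_of_injective
    (LinearMap.ker_eq_bot.mpr (algebraMap F E).injective)
  let Θ : E ⊗[K] A →ₗ[F] F ⊗[K] A := TensorProduct.AlgebraTensorModule.map θ LinearMap.id
  have hΘ : ∀ (e : E) (z : F ⊗[K] A), Θ (e • mapL A inc z) = θ e • z := by
    intro e z
    induction z using TensorProduct.induction_on with
    | zero => simp
    | tmul f a =>
      simp only [Algebra.TensorProduct.map_tmul, AlgHom.id_apply, TensorProduct.smul_tmul', smul_eq_mul]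
      have : θ (e * inc f) = θ e * f := by
        rw [show e * inc f = f • e by rw [Algebra.smul_def, mul_comm]; rfl, map_smul, smul_eq_mul, mul_comm]
      simp [Θ, this]
    | add z w hz hw => simp_all [map_add, smul_add]
  intro z
  obtain ⟨p, hp⟩ := hw.2.2 (mapL A inc z)
  have key : ∀ p : LP n E, Θ (psi w p) ∈ LinearMap.range (psi w₀).toLinearMap := by
    intro p
    induction p using MonoidAlgebra.induction_linear with
    | zero => simp
    | add p q hp hq => rw [map_add, map_add]; exact add_mem hp hq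
    | single m r =>
      refine ⟨MonoidAlgebra.single m (θ r), ?_⟩
      show psi w₀ _ = _
      rw [psi_single, psi_single]
      have : ((mon w m : (E ⊗[K] A)ˣ) : E ⊗[K] A) = mapL A inc (mon w₀ m : (F ⊗[K] A)ˣ) := by
        conv_lhs => rw [← hw₀]
        exact congrArg Units.val (map_mon (Units.map (mapL A inc : F ⊗[K] A →* E ⊗[K] A)) w₀ m).symm
      rw [this, hΘ]
  obtain ⟨q, hq⟩ := key p
  refine ⟨q, hq.trans ?_⟩
  rw [hp, ← one_smul E (mapL A inc z), hΘ]
  have : θ 1 = 1 := by simpa using LinearMap.congr_fun hθ 1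
  rw [this, one_smul]

/-- Splitting over a finite Galois extension. -/
theorem exists_split_galois {L : Type u} [Field L] [Algebra K L] {w : Fin n → (L ⊗[K] A)ˣ}
    (hw : IsSplit Δ w) :
    ∃ (F : Type u) (_ : Field F) (_ : Algebra K F), Module.Finite K F ∧ IsGalois K F ∧
      ∃ w' : Fin n → (F ⊗[K] A)ˣ, IsSplit Δ w' := by
  obtain ⟨k, _, _, hfin, w', hw'⟩ := exists_split_finite hw
  let ι : k →ₐ[K] AlgebraicClosure K := IsAlgClosed.lift
  let N := IntermediateField.normalClosure K ι.fieldRange (AlgebraicClosure K)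
  have : FiniteDimensional K ι.fieldRange := ι.toLinearMap.finiteDimensional_range
  have hle : ι.fieldRange ≤ N := IntermediateField.le_normalClosure _
  let j : k →ₐ[K] N := (IntermediateField.inclusion hle).comp ι.rangeRestrict
  let F := separableClosure K N
  obtain ⟨w₀, hw₀⟩ := exists_split_of_purelyInseparable (F := F) (hw'.map j)
  exact ⟨F, inferInstance, inferInstance, inferInstance, inferInstance, w₀, hw₀⟩

end Groth.Agent.Tori96
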