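import Groth.Agent.Tori96.Descent
import Groth.Agent.BddFin96.IntMat

/-!
The Galois action on the characters of a split algebra, rational points and invariant cocharacters.
-/

universe u

open scoped TensorProduct

set_option autoImplicit false

namespace Groth.Agent.Tori96

variable {K : Type u} [Field K] {A : Type u} [CommRing A] [Algebra K A] {Δ : A →ₐ[K] A ⊗[K] A} {n : ℕ}
  {F : Type u} [Field F] [Algebra K F] {w : Fin n → (F ⊗[K] A)ˣ}

theorem exists_act (hw : IsSplit Δ w) :
    ∃ ρ : (F ≃ₐ[K] F) →* Module.End ℤ (Fin n → ℤ), ∀ (σ : F ≃ₐ[K] F) (m : Fin n → ℤ),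
      mapL A (σ : F →ₐ[K] F) ((mon w (Multiplicative.ofAdd m) : (F ⊗[K] A)ˣ) : F ⊗[K] A) =
        (mon w (Multiplicative.ofAdd (ρ σ m)) : (F ⊗[K] A)ˣ) := by
  have hconn : ∀ e : F, e * e = e → e = 0 ∨ e = 1 := fun e he =>
    IsIdempotentElem.iff_eq_zero_or_one.mp he
  let U : (F ≃ₐ[K] F) → (F ⊗[K] A)ˣ →* (F ⊗[K] A)ˣ := fun σ =>
    Units.map (mapL A (σ : F →ₐ[K] F) : F ⊗[K] A →* F ⊗[K] A)
  choose c hc using fun (σ : F ≃ₐ[K] F) (m : Fin n → ℤ) =>
    exists_eq_mon hconn hw ((isChar_mon hw.1 (Multiplicative.ofAdd m)).map (σ : F →ₐ[K] F))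
  have hc' : ∀ σ m, U σ (mon w (Multiplicative.ofAdd m)) = mon w (c σ m) := hc
  have hinj := mon_injective hw
  let lin : (F ≃ₐ[K] F) → Module.End ℤ (Fin n → ℤ) := fun σ => (AddMonoidHom.mk'
    (fun m => Multiplicative.toAdd (c σ m)) fun a b => by
      apply Multiplicative.ofAdd.injective
      apply hinj
      rw [ofAdd_add, map_mul, ofAdd_toAdd, ofAdd_toAdd, ofAdd_toAdd, ← hc', ← hc', ← hc', ofAdd_add, map_mul,
        map_mul]).toIntLinearMap
  have hlin : ∀ σ m, U σ (mon w (Multiplicative.ofAdd m)) = mon w (Multiplicative.ofAdd (lin σ m)) :=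
    fun σ m => by rw [hc']; rfl
  have hUid : ∀ z : F ⊗[K] A, mapL A ((1 : F ≃ₐ[K] F) : F →ₐ[K] F) z = z := fun z => by
    induction z using TensorProduct.induction_on with
    | zero => exact map_zero _
    | tmul f a => rfl
    | add z w hz hw => rw [map_add, hz, hw]
  have hUmul : ∀ (σ τ : F ≃ₐ[K] F) (z : F ⊗[K] A),
      mapL A ((σ * τ : F ≃ₐ[K] F) : F →ₐ[K] F) z =
        mapL A (σ : F →ₐ[K] F) (mapL A (τ : F →ₐ[K] F) z) := fun σ τ z => by
    induction z using TensorProduct.induction_on with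
    | zero => simp
    | tmul f a => rfl
    | add z w hz hw => rw [map_add, map_add, map_add, hz, hw]
  refine ⟨{ toFun := lin, map_one' := ?_, map_mul' := ?_ }, fun σ m => congrArg Units.val (hlin σ m)⟩
  · refine LinearMap.ext fun m => ?_
    apply Multiplicative.ofAdd.injective
    apply hinj
    rw [← hlin]
    exact Units.ext (hUid _)
  · intro σ τ
    refine LinearMap.ext fun m => ?_
    apply Multiplicative.ofAdd.injective
    apply hinj
    show _ = mon w (Multiplicative.ofAdd (lin σ (lin τ m)))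
    rw [← hlin, ← hlin σ, ← hlin τ]
    exact Units.ext (hUmul σ τ _)

/-- The values of a rational point on the characters. -/
noncomputable def pval (w : Fin n → (F ⊗[K] A)ˣ) (x : A →ₐ[K] K) : Multiplicative (Fin n → ℤ) →* Fˣ :=
  (Units.map (evalAt (AlgHom.id K F) ((Algebra.ofId K F).comp x) : F ⊗[K] A →* F)).comp (mon w)

theorem pval_pmul (hw : IsSplit Δ w) (x y : A →ₐ[K] K) :
    pval w (pmul Δ x y) = pval w x * pval w y := by
  refine MonoidHom.ext fun m => Units.ext ?_
  show evalAt _ ((Algebra.ofId K F).comp (pmul Δ x y)) _ = _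
  rw [comp_pmul, (isChar_mon hw.1 m).evalAt_pmul]
  rfl

theorem pval_injective (hw : IsSplit Δ w) : Function.Injective (pval (K := K) (A := A) w) := by
  intro x y hxy
  have h := ext_of_split hw (f := evalAt (AlgHom.id K F) ((Algebra.ofId K F).comp x))
    (g := evalAt (AlgHom.id K F) ((Algebra.ofId K F).comp y))
    (by rw [Algebra.TensorProduct.productMap_left, Algebra.TensorProduct.productMap_left])
    (fun i => by
      have := congrArg Units.val (DFunLike.congr_fun hxy (Multiplicative.ofAdd (Pi.single i 1)))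
      simpa [pval, mon_single] using this)
  refine AlgHom.ext fun a => (algebraMap K F).injective ?_
  simpa [Algebra.ofId_apply] using DFunLike.congr_fun h (1 ⊗ₜ a)

theorem pval_act {ρ : (F ≃ₐ[K] F) →* Module.End ℤ (Fin n → ℤ)}
    (hρ : ∀ (σ : F ≃ₐ[K] F) (m : Fin n → ℤ),
      mapL A (σ : F →ₐ[K] F) ((mon w (Multiplicative.ofAdd m) : (F ⊗[K] A)ˣ) : F ⊗[K] A) =
        (mon w (Multiplicative.ofAdd (ρ σ m)) : (F ⊗[K] A)ˣ))
    (x : A →ₐ[K] K) (σ : F ≃ₐ[K] F) (m : Fin n → ℤ) :
    σ (pval w x (Multiplicative.ofAdd m) : F) = pval w x (Multiplicative.ofAdd (ρ σ m)) := by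
  show (σ : F →ₐ[K] F) (evalAt _ _ _) = evalAt _ _ _
  rw [comp_evalAt, ← hρ, evalAt_mapL]
  have : (σ : F →ₐ[K] F).comp ((Algebra.ofId K F).comp x) = (Algebra.ofId K F).comp x :=
    AlgHom.ext fun a => σ.commutes _
  rw [this, AlgHom.comp_id, AlgHom.id_comp]

section Lattice

variable {G : Type u} [Group G] [Fintype G] (ρ : G →* Module.End ℤ (Fin n → ℤ))

theorem exists_invariant_functional {m : Fin n → ℤ} (hm0 : m ≠ 0) (hm : ∀ g, ρ g m = m) :
    ∃ f : (Fin n → ℤ) →ₗ[ℤ] ℤ, Function.Surjective f ∧ ∀ g v, f (ρ g v) = f v := by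
  obtain ⟨i, hi⟩ : ∃ i, m i ≠ 0 := by
    by_contra h
    push Not at h
    exact hm0 (funext h)
  let f₁ : (Fin n → ℤ) →ₗ[ℤ] ℤ := ∑ g : G, (LinearMap.proj i).comp (ρ g)
  have hinv : ∀ g v, f₁ (ρ g v) = f₁ v := by
    intro g v
    simp only [f₁, LinearMap.sum_apply, LinearMap.comp_apply]
    exact Fintype.sum_equiv (Equiv.mulRight g) _ _
      (fun h => by rw [Equiv.coe_mulRight, map_mul, Module.End.mul_apply])
  have hne : f₁ m ≠ 0 := by
    simp only [f₁, LinearMap.sum_apply, LinearMap.comp_apply, hm, Finset.sum_const, Finset.card_univ,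
      LinearMap.proj_apply]
    exact smul_ne_zero Fintype.card_ne_zero hi
  obtain ⟨d, hd⟩ := (IsPrincipalIdealRing.principal (LinearMap.range f₁ : Ideal ℤ)).principal
  have hd0 : d ≠ 0 := by
    rintro rfl
    have : f₁ m ∈ LinearMap.range f₁ := ⟨m, rfl⟩
    rw [hd, Submodule.span_singleton_eq_bot.mpr rfl, Submodule.mem_bot] at this
    exact hne this
  have hdiv : ∀ v, ∃ c, f₁ v = c * d := fun v => by
    have : f₁ v ∈ LinearMap.range f₁ := ⟨v, rfl⟩
    rw [hd, Submodule.mem_span_singleton] at this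
    obtain ⟨c, hc⟩ := this
    exact ⟨c, hc.symm⟩
  choose c hc using hdiv
  refine ⟨(AddMonoidHom.mk' c fun a b => mul_right_cancel₀ hd0 (by rw [add_mul, ← hc, ← hc, ← hc, map_add])).toIntLinearMap,
    fun k => ?_, fun g v => mul_right_cancel₀ hd0 ((hc _).symm.trans ((hinv g v).trans (hc v)))⟩
  have : k * d ∈ LinearMap.range f₁ := by
    rw [hd]
    exact Submodule.mem_span_singleton.mpr ⟨k, rfl⟩
  obtain ⟨v, hv⟩ := this
  exact ⟨v, mul_right_cancel₀ hd0 ((hc v).symm.trans hv)⟩

end Lattice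

/-- An invariant cocharacter gives a homomorphism from the multiplicative group. -/
theorem exists_hom_of_cocharacter [FiniteDimensional K F] [IsGalois K F] (hw : IsSplit Δ w)
    {ρ : (F ≃ₐ[K] F) →* Module.End ℤ (Fin n → ℤ)}
    (hρ : ∀ (σ : F ≃ₐ[K] F) (m : Fin n → ℤ),
      mapL A (σ : F →ₐ[K] F) ((mon w (Multiplicative.ofAdd m) : (F ⊗[K] A)ˣ) : F ⊗[K] A) =
        (mon w (Multiplicative.ofAdd (ρ σ m)) : (F ⊗[K] A)ˣ))
    (f : (Fin n → ℤ) →ₗ[ℤ] ℤ) (hf : Function.Surjective f) (hinv : ∀ σ v, f (ρ σ v) = f v)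
    (B : Type u) [CommRing B] [Algebra K B] (t : Bˣ)
    (hB : Algebra.adjoin K {(t : B), ((t⁻¹ : Bˣ) : B)} = ⊤) :
    ∃ φ : A →ₐ[K] B, Function.Surjective φ ∧
      ∀ (S : Type u) [CommRing S] [Algebra K S] (x y z : B →ₐ[K] S), z t = x t * y t →
        pmul Δ (x.comp φ) (y.comp φ) = z.comp φ := by
  classical
  let t' : (F ⊗[K] B)ˣ :=
    Units.map (Algebra.TensorProduct.includeRight : B →ₐ[K] F ⊗[K] B).toMonoidHom t
  let g : Multiplicative (Fin n → ℤ) →* (F ⊗[K] B)ˣ :=
    { toFun := fun m => t' ^ f (Multiplicative.toAdd m)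
      map_one' := by simp
      map_mul' := fun a b => by rw [toAdd_mul, map_add, zpow_add] }
  let e := AlgEquiv.ofBijective (psi w) hw.2
  let Φ : F ⊗[K] A →ₐ[F] F ⊗[K] B :=
    (MonoidAlgebra.lift F (F ⊗[K] B) _ ((Units.coeHom _).comp g)).comp e.symm.toAlgHom
  have hΦmon : ∀ m, Φ ((mon w m : (F ⊗[K] A)ˣ) : F ⊗[K] A) = (g m : F ⊗[K] B) := by
    intro m
    have h1 : e.symm ((mon w m : (F ⊗[K] A)ˣ) : F ⊗[K] A) = MonoidAlgebra.single m 1 := by
      rw [AlgEquiv.symm_apply_eq]
      show _ = psi w _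
      rw [psi_single, one_smul]
    show MonoidAlgebra.lift F (F ⊗[K] B) _ ((Units.coeHom _).comp g) (e.symm _) = _
    rw [h1, MonoidAlgebra.lift_single, one_smul]
    rfl
  have hΦF : ∀ r : F, Φ (r ⊗ₜ 1) = r ⊗ₜ 1 := fun r => Φ.commutes r
  have hequiv : ∀ (σ : F ≃ₐ[K] F),
      (mapL B (σ : F →ₐ[K] F)).comp (Φ.restrictScalars K) =
        (Φ.restrictScalars K).comp (mapL A (σ : F →ₐ[K] F)) := by
    intro σ
    refine ext_of_split hw ?_ fun i => ?_
    · refine AlgHom.ext fun r => ?_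
      simp only [AlgHom.comp_apply, Algebra.TensorProduct.includeLeft_apply, AlgHom.coe_restrictScalars',
        Algebra.TensorProduct.map_tmul, AlgHom.id_apply, hΦF]
    · rw [← mon_single w i, AlgHom.comp_apply, AlgHom.comp_apply, hρ, AlgHom.coe_restrictScalars',
        hΦmon, hΦmon]
      simp only [g, MonoidHom.coe_mk, OneHom.coe_mk, toAdd_ofAdd, hinv]
      have hfix : Units.map (mapL B (σ : F →ₐ[K] F) : F ⊗[K] B →* F ⊗[K] B) t' = t' :=
        Units.ext (by simp [t'])
      refine (congrArg Units.val (map_zpow (Units.map (mapL B (σ : F →ₐ[K] F) : F ⊗[K] B →* F ⊗[K] B))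
        t' (f (Pi.single i 1)))).trans ?_
      rw [hfix]
  let bB := Module.Basis.ofVectorSpace K B
  have hfixed : ∀ z : F ⊗[K] B, (∀ σ : F ≃ₐ[K] F, mapL B (σ : F →ₐ[K] F) z = z) →
      ∃ b : B, (1 : F) ⊗ₜ[K] b = z := by
    intro z hz
    have hco : ∀ (σ : F ≃ₐ[K] F) (z' : F ⊗[K] B) k,
        TensorProduct.equivFinsuppOfBasisRight bB (mapL B (σ : F →ₐ[K] F) z') k =
          σ (TensorProduct.equivFinsuppOfBasisRight bB z' k) := by
      intro σ z' k
      induction z' using TensorProduct.induction_on with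
      | zero => simp only [map_zero, Finsupp.coe_zero, Pi.zero_apply]
      | tmul e a =>
        rw [Algebra.TensorProduct.map_tmul, AlgHom.id_apply,
          TensorProduct.equivFinsuppOfBasisRight_apply_tmul_apply,
          TensorProduct.equivFinsuppOfBasisRight_apply_tmul_apply, map_smul]
        rfl
      | add z w hz hw =>
        rw [map_add, map_add, map_add, Finsupp.add_apply, Finsupp.add_apply, hz, hw, map_add]
    have hmem : ∀ k, TensorProduct.equivFinsuppOfBasisRight bB z k ∈ Set.range (algebraMap K F) :=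
      fun k => (IsGalois.mem_range_algebraMap_iff_fixed _).mpr fun σ => by rw [← hco, hz]
    choose c hc using hmem
    refine ⟨(TensorProduct.equivFinsuppOfBasisRight bB z).support.sum fun k => c k • bB k, ?_⟩
    conv_rhs => rw [← (TensorProduct.equivFinsuppOfBasisRight bB).symm_apply_apply z,
      TensorProduct.equivFinsuppOfBasisRight_symm_apply]
    rw [TensorProduct.tmul_sum, Finsupp.sum]
    refine Finset.sum_congr rfl fun k _ => ?_
    rw [← TensorProduct.smul_tmul, ← hc, Algebra.algebraMap_eq_smul_one]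
  have hex : ∀ a : A, ∃ b : B, (1 : F) ⊗ₜ[K] b = Φ (1 ⊗ₜ a) := fun a => hfixed _ fun σ => by
    have := DFunLike.congr_fun (hequiv σ) (1 ⊗ₜ a)
    simp only [AlgHom.comp_apply, AlgHom.coe_restrictScalars', Algebra.TensorProduct.map_tmul, map_one,
      AlgHom.id_apply] at this
    exact this
  have hinjB : Function.Injective fun b : B => (1 : F) ⊗ₜ[K] b :=
    Algebra.TensorProduct.includeRight_injective (algebraMap K F).injective
  choose φf hφf using hex
  have hcalc : ∀ (f' : A → B), (∀ a, (1 : F) ⊗ₜ[K] f' a = Φ (1 ⊗ₜ a)) → f' 1 = 1 := fun f' h =>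
    hinjB (by show (1 : F) ⊗ₜ[K] f' 1 = (1 : F) ⊗ₜ[K] (1 : B); rw [h, ← Algebra.TensorProduct.one_def, map_one]; rfl)
  let φ : A →ₐ[K] B :=
    { toFun := φf
      map_one' := hcalc φf hφf
      map_mul' := fun a b => hinjB (by
        show (1 : F) ⊗ₜ[K] φf (a * b) = (1 : F) ⊗ₜ[K] (φf a * φf b)
        rw [hφf, show (1 : F) ⊗ₜ[K] (φf a * φf b) = ((1 : F) ⊗ₜ[K] φf a) * ((1 : F) ⊗ₜ[K] φf b) by simp,
          hφf, hφf, ← map_mul]
        simp)
      map_zero' := hinjB (by show (1 : F) ⊗ₜ[K] φf 0 = (1 : F) ⊗ₜ[K] 0; rw [hφf]; simp)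
      map_add' := fun a b => hinjB (by
        show (1 : F) ⊗ₜ[K] φf (a + b) = (1 : F) ⊗ₜ[K] (φf a + φf b)
        simp only [TensorProduct.tmul_add, hφf, map_add])
      commutes' := fun k => hinjB (by
        show (1 : F) ⊗ₜ[K] φf (algebraMap K A k) = (1 : F) ⊗ₜ[K] algebraMap K B k
        rw [hφf]
        have h1 : (1 : F) ⊗ₜ[K] algebraMap K A k = algebraMap K F k ⊗ₜ 1 := by
          rw [Algebra.algebraMap_eq_smul_one, Algebra.algebraMap_eq_smul_one, TensorProduct.smul_tmul]
        have h2 : (1 : F) ⊗ₜ[K] algebraMap K B k = algebraMap K F k ⊗ₜ 1 := by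
          rw [Algebra.algebraMap_eq_smul_one, Algebra.algebraMap_eq_smul_one, TensorProduct.smul_tmul]
        rw [h1, h2, hΦF]) }
  have hΦφ : mapR F φ = Φ.restrictScalars K := by
    refine Algebra.TensorProduct.ext (AlgHom.ext fun r => ?_) (AlgHom.ext fun a => ?_)
    · simp [hΦF]
    · show (1 : F) ⊗ₜ[K] φ a = Φ (1 ⊗ₜ a)
      exact hφf a
  refine ⟨φ, ?_, fun S _ _ x y z hz => ?_⟩
  · have hsurj : Function.Surjective (mapR F φ) := by
      rw [hΦφ]
      intro z
      have hpow : ∀ k : ℤ, ((t' ^ k : (F ⊗[K] B)ˣ) : F ⊗[K] B) ∈ Φ.range := fun k => by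
        obtain ⟨v, rfl⟩ := hf k
        exact ⟨_, hΦmon (Multiplicative.ofAdd v)⟩
      have hle : Algebra.adjoin K {(t : B), ((t⁻¹ : Bˣ) : B)} ≤ (Φ.range.restrictScalars K).comap
          (Algebra.TensorProduct.includeRight : B →ₐ[K] F ⊗[K] B) := by
        refine Algebra.adjoin_le ?_
        rintro b (rfl | rfl)
        · simpa [t'] using hpow 1
        · simpa [t'] using hpow (-1)
      rw [hB] at hle
      show z ∈ Φ.range
      induction z using TensorProduct.induction_on with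
      | zero => exact zero_mem _
      | add a b ha hb => exact add_mem ha hb
      | tmul r b =>
        have := Φ.range.smul_mem (hle (Algebra.mem_top : b ∈ ⊤)) r
        simpa [TensorProduct.smul_tmul'] using this
    exact (Module.FaithfullyFlat.lTensor_surjective_iff_surjective K F φ.toLinearMap).mp hsurj
  · let ι : S →ₐ[K] F ⊗[K] S := Algebra.TensorProduct.includeRight
    have hι : Function.Injective ι := Algebra.TensorProduct.includeRight_injective (algebraMap K F).injective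
    let ρ' : F →ₐ[K] F ⊗[K] S := Algebra.TensorProduct.includeLeft
    have key : evalAt ρ' (pmul Δ ((ι.comp x).comp φ) ((ι.comp y).comp φ)) =
        evalAt ρ' ((ι.comp z).comp φ) := by
      refine ext_of_split hw ?_ fun i => ?_
      · rw [Algebra.TensorProduct.productMap_left, Algebra.TensorProduct.productMap_left]
      · rw [(hw.1 i).evalAt_pmul, ← evalAt_mapR ρ' (ι.comp x) φ, ← evalAt_mapR ρ' (ι.comp y) φ,
          ← evalAt_mapR ρ' (ι.comp z) φ, hΦφ, ← mon_single w i,
          AlgHom.coe_restrictScalars', hΦmon]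
        have hev : ∀ (x : B →ₐ[K] F ⊗[K] S) (k : ℤ), evalAt ρ' x ((t' ^ k : (F ⊗[K] B)ˣ) : F ⊗[K] B) =
            ((Units.map (x : B →* F ⊗[K] S) t) ^ k : (F ⊗[K] S)ˣ) := by
          intro x k
          have : Units.map (evalAt ρ' x : F ⊗[K] B →* F ⊗[K] S) t' = Units.map (x : B →* F ⊗[K] S) t :=
            Units.ext (by simp [t'])
          rw [← this]
          exact congrArg Units.val (map_zpow (Units.map (evalAt ρ' x : F ⊗[K] B →* F ⊗[K] S)) t' k)
        simp only [g, MonoidHom.coe_mk, OneHom.coe_mk]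
        rw [hev, hev, hev, ← Units.val_mul, ← mul_zpow]
        congr 2
        exact Units.ext (by
          show ι (x t) * ι (y t) = ι (z t)
          rw [← map_mul, hz])
    refine AlgHom.ext fun a => hι ?_
    have h2 := DFunLike.congr_fun key (1 ⊗ₜ a)
    simp only [Algebra.TensorProduct.productMap_apply_tmul, map_one, one_mul] at h2
    rw [AlgHom.comp_assoc, AlgHom.comp_assoc, ← comp_pmul] at h2
    exact h2

end Groth.Agent.Tori96
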